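import Cfsg.Agent.Lib.LargeExtra.MonsterFischer.Points

/-!
The permutations of the 112 points induced by the centralizer form a group of order at least 6531840
with trivial centre.
-/

set_option autoImplicit false
set_option maxRecDepth 100000
set_option maxHeartbeats 4000000

namespace Cfsg.Agent.LargeExtra.MonsterFischer

open Data

/-- A list describing an element of a subgroup. -/
def Rep (H : Subgroup (Equiv.Perm (Fin 112))) (l : List ℕ) : Prop :=
  l.length = 112 ∧ ∃ g ∈ H, ∀ x : Fin 112, (g x : ℕ) = l.getD x 0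

/-- The inverse of a list. -/
def invL (l : List ℕ) : List ℕ := (List.range 112).map fun y => l.idxOf y

theorem invL_spec {l : List ℕ} (hl : l.length = 112) {g : Equiv.Perm (Fin 112)}
    (hg : ∀ x : Fin 112, (g x : ℕ) = l.getD x 0) (y : Fin 112) : (g⁻¹ y : ℕ) = (invL l).getD y 0 := by
  have hgd : ∀ (i : ℕ) (hi : i < l.length), (g ⟨i, hi.trans_eq hl⟩ : ℕ) = l[i] := fun i hi => by
    rw [hg, List.getD_eq_getElem _ _ hi]
  have hmem : (y : ℕ) ∈ l := by
    have h2 := hgd (g⁻¹ y : Fin 112) (by rw [hl]; exact (g⁻¹ y).2)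
    simp only [Fin.eta, Equiv.Perm.coe_inv, Equiv.apply_symm_apply] at h2
    exact List.mem_iff_getElem.2 ⟨_, _, h2.symm⟩
  have hlt : l.idxOf (y : ℕ) < l.length := List.idxOf_lt_length_iff.2 hmem
  have h3 := hgd _ hlt
  rw [List.getElem_idxOf hlt] at h3
  have h4 : g⁻¹ y = ⟨l.idxOf (y : ℕ), hlt.trans_eq hl⟩ := by
    rw [Equiv.Perm.inv_eq_iff_eq]
    exact Fin.ext h3.symm
  rw [h4, invL, List.getD_eq_getElem _ _ (by simp), List.getElem_map, List.getElem_range]

/-- A step of a word. -/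
def stepW (L : List (List ℕ)) (o : ℕ × Bool) (x : ℕ) : ℕ :=
  if o.2 then (invL (L.getD o.1 [])).getD x 0 else (L.getD o.1 []).getD x 0

/-- The map of a word. -/
def wordF (L : List (List ℕ)) : List (ℕ × Bool) → ℕ → ℕ
  | [], x => x
  | o :: w, x => wordF L w (stepW L o x)

theorem wordF_spec {H : Subgroup (Equiv.Perm (Fin 112))} {L : List (List ℕ)} (hL : ∀ l ∈ L, Rep H l) :
    ∀ w : List (ℕ × Bool), (w.all fun o => decide (o.1 < L.length)) = true →
      ∃ g ∈ H, ∀ x : Fin 112, (g x : ℕ) = wordF L w x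
  | [], _ => ⟨1, one_mem _, fun _ => rfl⟩
  | o :: w, h => by
    simp only [List.all_cons, Bool.and_eq_true, decide_eq_true_eq] at h
    obtain ⟨g, hg, hgx⟩ := wordF_spec hL w h.2
    obtain ⟨hlen, s, hs, hsx⟩ := hL _ (List.getElem_mem h.1)
    cases hb : o.2 with
    | false =>
      refine ⟨g * s, mul_mem hg hs, fun x => ?_⟩
      rw [Equiv.Perm.mul_apply, hgx, wordF, stepW, hb, List.getD_eq_getElem L [] h.1, hsx]
      rfl
    | true =>
      refine ⟨g * s⁻¹, mul_mem hg (inv_mem hs), fun x => ?_⟩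
      rw [Equiv.Perm.mul_apply, hgx, wordF, stepW, hb, List.getD_eq_getElem L [] h.1,
        invL_spec hlen hsx]
      rfl

/-- The lists of the next level. -/
def nextL (L : List (List ℕ)) (ws : List (List (ℕ × Bool))) : List (List ℕ) :=
  ws.map fun w => (List.range 112).map (wordF L w)

/-- The orbit along a tree. -/
def orbitL (L : List (List ℕ)) (b : ℕ) (tree : List (ℕ × ℕ)) : List ℕ :=
  tree.foldl (fun pts t => pts ++ [(L.getD t.2 []).getD (pts.getD t.1 b) 0]) [b]

theorem orbitL_spec {H : Subgroup (Equiv.Perm (Fin 112))} {L : List (List ℕ)} (hL : ∀ l ∈ L, Rep H l)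
    (b : Fin 112) {tree : List (ℕ × ℕ)} (ht : (tree.all fun t => decide (t.2 < L.length)) = true) :
    ∀ y ∈ orbitL L b tree, ∃ g ∈ H, (g b : ℕ) = y := by
  have key : ∀ (tree : List (ℕ × ℕ)) (pts : List ℕ),
      (tree.all fun t => decide (t.2 < L.length)) = true → (∀ y ∈ pts, ∃ g ∈ H, (g b : ℕ) = y) →
      ∀ y ∈ tree.foldl (fun pts t => pts ++ [(L.getD t.2 []).getD (pts.getD t.1 b) 0]) pts,
        ∃ g ∈ H, (g b : ℕ) = y := by
    intro tree
    induction tree with
    | nil => exact fun pts _ h => h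
    | cons t tree ih =>
      intro pts ht h
      simp only [List.all_cons, Bool.and_eq_true, decide_eq_true_eq] at ht
      refine ih _ ht.2 fun y hy => ?_
      rcases List.mem_append.1 hy with hy | hy
      · exact h y hy
      · rw [List.mem_singleton] at hy
        subst hy
        have hbase : ∃ g ∈ H, (g b : ℕ) = pts.getD t.1 b := by
          by_cases hlt : t.1 < pts.length
          · rw [List.getD_eq_getElem _ _ hlt]
            exact h _ (List.getElem_mem hlt)
          · rw [List.getD_eq_default _ _ (not_lt.1 hlt)]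
            exact ⟨1, one_mem _, rfl⟩
        obtain ⟨g, hg, hgb⟩ := hbase
        obtain ⟨-, s, hs, hsx⟩ := hL _ (List.getElem_mem ht.1)
        refine ⟨s * g, mul_mem hs hg, ?_⟩
        rw [Equiv.Perm.mul_apply, hsx, hgb, List.getD_eq_getElem L [] ht.1]
  exact key tree [(b : ℕ)] ht fun y hy => ⟨1, one_mem _, (List.mem_singleton.1 hy).symm⟩

/-- The level `n`. -/
def levelAt (n : ℕ) : ℕ × List (ℕ × ℕ) × List (List (ℕ × Bool)) := Data.chain.getD n (0, [], [])

/-- The base point of level `n`. -/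
def baseAt (n : ℕ) : Fin 112 := ⟨(levelAt n).1 % 112, Nat.mod_lt _ (by norm_num)⟩

/-- The lists of level `n`. -/
def lvlL : ℕ → List (List ℕ)
  | 0 => allPerms
  | n + 1 => nextL (lvlL n) (levelAt n).2.2

/-- The subgroup of level `n`. -/
noncomputable def lvlH : ℕ → Subgroup (Equiv.Perm (Fin 112))
  | 0 => J.range
  | n + 1 => lvlH n ⊓ MulAction.stabilizer (Equiv.Perm (Fin 112)) (baseAt n)

/-- The orbit lengths. -/
def lvlSize (n : ℕ) : ℕ := [112, 81, 30, 12, 2].getD n 0

/-- The test of level `n`. -/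
def lvlOK (n : ℕ) : Bool :=
  ((levelAt n).2.1.all fun t => decide (t.2 < (lvlL n).length)) &&
  ((levelAt n).2.2.all fun w => (w.all fun o => decide (o.1 < (lvlL n).length)) &&
    (wordF (lvlL n) w (baseAt n) == (baseAt n : ℕ))) &&
  decide ((orbitL (lvlL n) (baseAt n) (levelAt n).2.1).Nodup) &&
  ((orbitL (lvlL n) (baseAt n) (levelAt n).2.1).length == lvlSize n) &&
  ((orbitL (lvlL n) (baseAt n) (levelAt n).2.1).all fun y => decide (y < 112))

theorem lvl0_ok : lvlOK 0 = true := by decide +kernel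
theorem lvl1_ok : lvlOK 1 = true := by decide +kernel
theorem lvl2_ok : lvlOK 2 = true := by decide +kernel
theorem lvl3_ok : lvlOK 3 = true := by decide +kernel
theorem lvl4_ok : lvlOK 4 = true := by decide +kernel

theorem allPerms_facts : allPerms.length = 13 ∧ (∀ l ∈ allPerms, l.length = 112) ∧
    ∀ (i : Fin 13) (k : Fin 112), (allPerms.getD i []).getD k 0 = (pimg i k : ℕ) := by decide +kernel

theorem lvl_rep : ∀ n : ℕ, n ≤ 5 → ∀ l ∈ lvlL n, Rep (lvlH n) l
  | 0, _, l, hl => by
    obtain ⟨h13, hlen, hval⟩ := allPerms_facts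
    refine ⟨hlen l hl, ?_⟩
    obtain ⟨i, hi, rfl⟩ := List.getElem_of_mem hl
    refine ⟨J (gC ⟨i, hi.trans_eq h13⟩), ⟨_, rfl⟩, fun x => ?_⟩
    rw [J_gC, ← hval]
    show (allPerms.getD i []).getD x 0 = _
    rw [List.getD_eq_getElem allPerms [] hi]
    rfl
  | n + 1, hn, l, hl => by
    obtain ⟨w, hw, rfl⟩ := List.mem_map.1 (show l ∈ nextL (lvlL n) (levelAt n).2.2 from hl)
    refine ⟨by simp, ?_⟩
    have hok : lvlOK n = true := by
      have : n < 5 := by omega
      interval_cases n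
      exacts [lvl0_ok, lvl1_ok, lvl2_ok, lvl3_ok, lvl4_ok]
    simp only [lvlOK, Bool.and_eq_true, List.all_eq_true, beq_iff_eq, decide_eq_true_eq] at hok
    obtain ⟨hidx, hfix⟩ := hok.1.1.1.2 w hw
    obtain ⟨g, hg, hgx⟩ := wordF_spec (lvl_rep n (by omega)) w
      (List.all_eq_true.2 fun o ho => decide_eq_true (hidx o ho))
    refine ⟨g, ⟨hg, MulAction.mem_stabilizer_iff.2 (Fin.ext ?_)⟩, fun x => ?_⟩
    · rw [Equiv.Perm.smul_def, hgx, hfix]
    · rw [hgx, List.getD_eq_getElem _ _ (by simp), List.getElem_map, List.getElem_range]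

theorem card_step {H : Subgroup (Equiv.Perm (Fin 112))} (b : Fin 112) (l : List ℕ) (hnd : l.Nodup)
    (hl : ∀ y ∈ l, ∃ g ∈ H, (g b : ℕ) = y) :
    l.length * Nat.card ↥(H ⊓ MulAction.stabilizer (Equiv.Perm (Fin 112)) b) ≤ Nat.card H := by
  let r : Fin l.length → H := fun i =>
    ⟨(hl l[i.1] (List.getElem_mem i.2)).choose, (hl l[i.1] (List.getElem_mem i.2)).choose_spec.1⟩
  have hr : ∀ i : Fin l.length, ((r i).1 b : ℕ) = l[i.1] := fun i =>
    (hl l[i.1] (List.getElem_mem i.2)).choose_spec.2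
  let F : Fin l.length × ↥(H ⊓ MulAction.stabilizer (Equiv.Perm (Fin 112)) b) → H := fun p =>
    r p.1 * ⟨p.2.1, p.2.2.1⟩
  have hF : Function.Injective F := by
    rintro ⟨i, h⟩ ⟨j, k⟩ e
    have e' : (r i).1 * h.1 = (r j).1 * k.1 := congrArg Subtype.val e
    have hb : h.1 b = b := h.2.2
    have kb : k.1 b = b := k.2.2
    have e2 := congrArg (fun u : Equiv.Perm (Fin 112) => (u b : ℕ)) e'
    simp only [Equiv.Perm.mul_apply, hb, kb, hr] at e2
    have hij : i = j := Fin.ext ((hnd.getElem_inj_iff).1 e2)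
    subst hij
    exact Prod.ext rfl (Subtype.ext (mul_left_cancel e'))
  have := Nat.card_le_card_of_injective F hF
  rwa [Nat.card_prod, Nat.card_fin] at this

theorem card_level (n : ℕ) (hn : n < 5) :
    lvlSize n * Nat.card (lvlH (n + 1)) ≤ Nat.card (lvlH n) := by
  have hok : lvlOK n = true := by
    interval_cases n
    exacts [lvl0_ok, lvl1_ok, lvl2_ok, lvl3_ok, lvl4_ok]
  simp only [lvlOK, Bool.and_eq_true, beq_iff_eq, decide_eq_true_eq] at hok
  rw [← hok.1.2]
  exact card_step (baseAt n) _ hok.1.1.2 (orbitL_spec (lvl_rep n (by omega)) (baseAt n) hok.1.1.1.1)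

theorem card_range_ge : 6531840 ≤ Nat.card J.range := by
  have h4 := card_level 4 (by norm_num)
  have h3 := card_level 3 (by norm_num)
  have h2 := card_level 2 (by norm_num)
  have h1 := card_level 1 (by norm_num)
  have h0 := card_level 0 (by norm_num)
  simp only [lvlSize, List.getD_cons_zero, List.getD_cons_succ, Nat.reduceAdd] at h0 h1 h2 h3 h4
  change 112 * Nat.card (lvlH 1) ≤ Nat.card J.range at h0
  have h5 : 1 ≤ Nat.card (lvlH 5) := Nat.card_pos
  omega

theorem stab_fix : ∀ x : Fin 112, (∀ l ∈ lvlL 1, l.getD x 0 = (x : ℕ)) → x = baseAt 0 := by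
  decide +kernel

theorem orbit_all : ∀ x : Fin 112, (x : ℕ) ∈ orbitL (lvlL 0) (baseAt 0) (levelAt 0).2.1 := by
  decide +kernel

/-- Only the identity commutes with all the permutations. -/
theorem center_range {c : Equiv.Perm (Fin 112)} (hc : ∀ g ∈ J.range, g * c = c * g) : c = 1 := by
  have hb : c (baseAt 0) = baseAt 0 := by
    refine stab_fix _ fun l hl => ?_
    obtain ⟨-, g, hg, hgx⟩ := lvl_rep 1 (by norm_num) l hl
    have e := congrArg (fun u : Equiv.Perm (Fin 112) => u (baseAt 0)) (hc g hg.1)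
    simp only [Equiv.Perm.mul_apply, show g (baseAt 0) = baseAt 0 from hg.2] at e
    rw [← hgx, e]
  have hok := lvl0_ok
  simp only [lvlOK, Bool.and_eq_true, beq_iff_eq, decide_eq_true_eq] at hok
  refine Equiv.ext fun x => ?_
  obtain ⟨g, hg, hgb⟩ := orbitL_spec (lvl_rep 0 (by norm_num)) (baseAt 0) hok.1.1.1.1 _ (orbit_all x)
  have hgb' : g (baseAt 0) = x := Fin.ext hgb
  have e := congrArg (fun u : Equiv.Perm (Fin 112) => u (baseAt 0)) (hc g hg)
  simp only [Equiv.Perm.mul_apply, hb, hgb'] at e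
  rw [Equiv.Perm.one_apply]
  exact e.symm

end Cfsg.Agent.LargeExtra.MonsterFischer
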