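import Cfsg.Agent.Lib.LargeExtra.MonsterFischer.Elements

/-!
The classes modulo two fixed by the element of order three: a space of dimension twelve over the
field with two elements, spanned by twelve fixed vectors.
-/

set_option autoImplicit false
set_option maxRecDepth 100000
set_option maxHeartbeats 4000000

namespace Cfsg.Agent.LargeExtra.MonsterFischer

open Cfsg Cfsg.Agent.Golay.Basic Cfsg.Agent.Leech.Basic Cfsg.Agent.Leech.Classes Cfsg.Agent.Leech.Mod2
  Cfsg.Agent.Leech.Index Cfsg.Agent.Leech.Gen Cfsg.Agent.LeechAut.Gens Cfsg.Agent.LeechAut.Basic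
  Cfsg.Agent.LeechAut.Cross Data
open Cfsg.Agent.Golay.M24 (tabAt)
open MonsterCent.Seven (Cl half cls_of_half cls_two cls_add cls_zero' val_nsmul_add eq_zero_of_short)

/-- The action of the element on vectors. -/
def sFun (x : Vec) : Vec := fun p => x (pt (tabAt sigTab (ix p)))

theorem sig_coe (v : leechLattice) : ((sig • v : leechLattice) : Vec) = sFun (v : Vec) :=
  funext fun p => by rw [sig_smul, sFun, ← ix_tau0, pt_ix]

/-- A basic fixed vector. -/
def bFun (k : Fin 12) : Vec := vec (basisVecs.getD k [])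

theorem bFun_mem : ∀ k, inLat (bFun k) = true := by decide +kernel

theorem bFun_fixed : ∀ k p, sFun (bFun k) p = bFun k p := by decide +kernel

/-- A basic fixed vector, in the lattice. -/
def bv (k : Fin 12) : leechLattice := ⟨bFun k, mem_of_inLat (bFun_mem k)⟩

/-- A combination of the basic vectors. -/
def combFun (x : Fin 12 → ZMod 2) : Vec := fun p => ∑ k, ((x k).val : ℤ) * bFun k p

/-- A combination of the basic vectors, in the lattice. -/
def comb (x : Fin 12 → ZMod 2) : leechLattice := ∑ k, (x k).val • bv k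

theorem comb_coe (x : Fin 12 → ZMod 2) : (comb x : Vec) = combFun x := by
  funext p
  rw [comb, AddSubmonoidClass.coe_finsetSum, Finset.sum_apply, combFun]
  refine Finset.sum_congr rfl fun k _ => ?_
  rw [AddSubmonoidClass.coe_nsmul, Pi.smul_apply, nsmul_eq_mul]
  rfl

theorem fixed_comb (x : Fin 12 → ZMod 2) : Fixed (comb x) := by
  refine Subtype.ext ?_
  rw [sig_coe, comb_coe]
  funext p
  show combFun x _ = combFun x p
  simp only [combFun]
  refine Finset.sum_congr rfl fun k _ => ?_
  exact congrArg (fun t => ((x k).val : ℤ) * t) (bFun_fixed k p)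

/-- The coordinates of the fixed classes. -/
def phi : (Fin 12 → ZMod 2) →+ Cl :=
  AddMonoidHom.mk' (fun x => ∑ k, (x k).val • cls (bv k)) fun x y => by
    rw [← Finset.sum_add_distrib]
    exact Finset.sum_congr rfl fun k _ => val_nsmul_add _ _ _

theorem phi_eq (x : Fin 12 → ZMod 2) : phi x = cls (comb x) := by
  let cl : leechLattice →+ Cl := QuotientAddGroup.mk' _
  show ∑ k, (x k).val • cl (bv k) = cl _
  rw [comb, map_sum]
  simp only [map_nsmul]

theorem eight_dvd_dot {u w : Vec} (hu : u ∈ leechLattice) (hw : w ∈ leechLattice) :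
    (8 : ℤ) ∣ dotInt u w := by
  have h := sixteen_dvd_sqNorm (leechLattice.add_mem hu hw)
  have h1 := sixteen_dvd_sqNorm hu
  have h2 := sixteen_dvd_sqNorm hw
  rw [sqNorm_add] at h
  omega

/-- The Gram matrix modulo two. -/
def gram (i j : Fin 12) : ZMod 2 := ((dotInt (bFun i) (bFun j) / 8 : ℤ) : ZMod 2)

/-- Its inverse. -/
def gramI (i j : Fin 12) : ZMod 2 := (((gramInv.getD i []).getD j 0 : ℕ) : ZMod 2)

theorem gram_inv : ∀ i l, ∑ j, gram i j * gramI j l = if i = l then 1 else 0 := by decide +kernel

theorem phi_injective : Function.Injective phi := by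
  refine (injective_iff_map_eq_zero phi).2 fun x hx => ?_
  rw [phi_eq] at hx
  obtain ⟨u, hu⟩ := cls_eq_iff.1 (hx.trans cls_zero'.symm)
  rw [sub_zero] at hu
  have key : ∀ j, ∑ k, x k * gram k j = 0 := by
    intro j
    have e1 : dotInt (comb x : Vec) (bFun j) = ∑ k, ((x k).val : ℤ) * dotInt (bFun k) (bFun j) := by
      rw [comb_coe]
      simp only [dotInt, combFun, Finset.sum_mul, Finset.mul_sum]
      rw [Finset.sum_comm]
      exact Finset.sum_congr rfl fun k _ => Finset.sum_congr rfl fun p _ => mul_assoc _ _ _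
    have e2 : dotInt (comb x : Vec) (bFun j) = 2 * dotInt (u : Vec) (bFun j) := by
      rw [hu, AddSubgroup.coe_add]
      simp only [dotInt, Pi.add_apply, Finset.mul_sum]
      exact Finset.sum_congr rfl fun p _ => by ring
    obtain ⟨c, hc⟩ := eight_dvd_dot u.2 (mem_of_inLat (bFun_mem j))
    have e3 : ∑ k, ((x k).val : ℤ) * (dotInt (bFun k) (bFun j) / 8) = 2 * c := by
      have e4 : (8 : ℤ) * ∑ k, ((x k).val : ℤ) * (dotInt (bFun k) (bFun j) / 8) = 8 * (2 * c) := by
        rw [Finset.mul_sum, ← mul_left_comm 2, ← hc, ← e2, e1]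
        refine Finset.sum_congr rfl fun k _ => ?_
        rw [mul_left_comm, Int.mul_ediv_cancel' (eight_dvd_dot (mem_of_inLat (bFun_mem k))
          (mem_of_inLat (bFun_mem j)))]
      exact mul_left_cancel₀ (by norm_num) e4
    have := congrArg (fun t : ℤ => (t : ZMod 2)) e3
    simp only [Int.cast_sum, Int.cast_mul, Int.cast_natCast, ZMod.natCast_zmod_val] at this
    rw [show ∑ k, x k * gram k j = ∑ k, x k * ((dotInt (bFun k) (bFun j) / 8 : ℤ) : ZMod 2) from rfl, this,
      show ((2 : ℤ) : ZMod 2) = 0 from rfl, zero_mul]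
  funext i
  calc x i = ∑ k, x k * (if k = i then 1 else 0) := by simp
    _ = ∑ k, x k * ∑ j, gram k j * gramI j i := by simp only [gram_inv]
    _ = ∑ j, (∑ k, x k * gram k j) * gramI j i := by
        simp only [Finset.mul_sum, Finset.sum_mul]
        rw [Finset.sum_comm]
        exact Finset.sum_congr rfl fun j _ => Finset.sum_congr rfl fun k _ => (mul_assoc _ _ _).symm
    _ = 0 := by simp only [key, zero_mul, Finset.sum_const_zero]

theorem phi_fixed (x : Fin 12 → ZMod 2) {v : leechLattice} (h : cls v = phi x) :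
    cls (sig • v) = cls v := by
  rw [MonsterPair.cls_smul sig (h.trans (phi_eq x)), h.trans (phi_eq x), fixed_comb x]

/-! ### The trace -/

/-- The trace on vectors. -/
def trFun (x : Vec) : Vec := fun p => x p + sFun x p + sFun (sFun x) p

/-- The trace. -/
noncomputable def trL (v : leechLattice) : leechLattice := v + sig • v + sig • sig • v

theorem trL_coe (v : leechLattice) : (trL v : Vec) = trFun (v : Vec) := by
  simp only [trL, AddSubgroup.coe_add, sig_coe]
  rfl

theorem trL_add (v w : leechLattice) : trL (v + w) = trL v + trL w := by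
  simp only [trL, smul_add']
  abel

theorem trL_zero : trL 0 = 0 := by simp [trL, smul_zero']

/-- The coordinates of an index. -/
def bits (m : ℕ) : Fin 12 → ZMod 2 := fun k => if m.testBit k then 1 else 0

theorem odd_trace : inLat oddVec = true ∧
    half (trFun oddVec) (combFun (bits oddCert)) = true := by decide +kernel

theorem pair_trace : ∀ i : GolayPt, i ≠ none →
    (inLat (pairVec i 1) = true ∧ half (trFun (pairVec i 1)) (combFun (bits (pairCertP.getD (ix i) 0))) = true) ∧
    (inLat (pairVec i (-1)) = true ∧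
      half (trFun (pairVec i (-1))) (combFun (bits (pairCertN.getD (ix i) 0))) = true) := by
  decide +kernel

theorem code_trace : ∀ k : Fin 12, inLat (twoInd (maskSet (basisMasks.getD k 0))) = true ∧
    half (trFun (twoInd (maskSet (basisMasks.getD k 0)))) (combFun (bits (codeCert.getD k 0))) = true := by
  decide +kernel

/-- The vectors whose trace lies in the span. -/
def good : AddSubgroup Vec where
  carrier := {w | ∃ v : leechLattice, (v : Vec) = w ∧ ∃ x, cls (trL v) = phi x}
  zero_mem' := ⟨0, rfl, 0, by rw [trL_zero, map_zero, cls_zero']⟩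
  add_mem' := by
    rintro a b ⟨v, rfl, x, hx⟩ ⟨w, rfl, y, hy⟩
    exact ⟨v + w, AddSubgroup.coe_add _ v w, x + y, by rw [trL_add, cls_add, hx, hy, map_add]⟩
  neg_mem' := by
    rintro a ⟨v, rfl, x, hx⟩
    refine ⟨-v, AddSubgroup.coe_neg _ v, x, ?_⟩
    have h := trL_add v (-v)
    rw [add_neg_cancel, trL_zero] at h
    rw [eq_neg_of_add_eq_zero_right h.symm, cls_neg, hx]

theorem good_of_test {w : Vec} {m : ℕ}
    (h : inLat w = true ∧ half (trFun w) (combFun (bits m)) = true) : w ∈ good :=
  ⟨⟨w, mem_of_inLat h.1⟩, rfl, bits m, by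
    rw [phi_eq]
    exact cls_of_half (by rw [trL_coe, comb_coe]; exact h.2)⟩

theorem le_good : leechLattice ≤ good := by
  refine le_of_gens good (good_of_test odd_trace) ?_ ?_
  · intro i hi t ht
    simp only [List.mem_cons, List.not_mem_nil, or_false] at ht
    rcases ht with rfl | rfl
    · exact good_of_test (pair_trace i hi).1
    · exact good_of_test (pair_trace i hi).2
  · intro b hb
    obtain ⟨k, hk, rfl⟩ := List.getElem_of_mem hb
    have hk' : k < 12 := by simpa [basisMasks] using hk
    rw [← List.getD_eq_getElem _ 0 hk]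
    exact good_of_test (code_trace ⟨k, hk'⟩)

/-- The fixed classes are the twelve-dimensional span. -/
theorem exists_phi {v : leechLattice} (hv : cls (sig • v) = cls v) : ∃ x, cls v = phi x := by
  obtain ⟨v', hv', x, hx⟩ := le_good v.2
  obtain rfl : v' = v := Subtype.ext hv'
  refine ⟨x, ?_⟩
  have e2 : cls (sig • sig • v') = cls v' := (MonsterPair.cls_smul sig hv).trans hv
  rw [← hx, trL, cls_add, cls_add, hv, e2, cls_two, zero_add]

/-- The fixed classes. -/
def FixC (c : Cl) : Prop := ∃ v, cls v = c ∧ cls (sig • v) = cls v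

theorem card_fixed : Nat.card {c : Cl // FixC c} = 2 ^ (2 * 6) := by
  let f : (Fin 12 → ZMod 2) → {c : Cl // FixC c} := fun x =>
    ⟨phi x, comb x, (phi_eq x).symm, phi_fixed x (phi_eq x).symm⟩
  rw [← Nat.card_eq_of_bijective f ⟨fun a b h => phi_injective (congrArg Subtype.val h), ?_⟩,
    Nat.card_eq_fintype_card, Fintype.card_fun, Fintype.card_fin, ZMod.card]
  rintro ⟨c, v, rfl, hv⟩
  obtain ⟨x, hx⟩ := exists_phi hv
  exact ⟨x, Subtype.ext hx.symm⟩

end Cfsg.Agent.LargeExtra.MonsterFischer
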