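import Cfsg.Agent.Lib.LargeExtra.MonsterFischer.Classes

/-!
At most 1701 fixed classes contain a vector of squared length 64: the remaining ones are zero and
2394 classes of shorter fixed vectors.
-/

set_option autoImplicit false
set_option maxRecDepth 100000
set_option maxHeartbeats 4000000

namespace Cfsg.Agent.LargeExtra.MonsterFischer

open Cfsg Cfsg.Agent.Golay.Basic Cfsg.Agent.Leech.Basic Cfsg.Agent.Leech.Classes Cfsg.Agent.Leech.Mod2
  Cfsg.Agent.Leech.Index Cfsg.Agent.LeechAut.Gens Cfsg.Agent.LeechAut.Basic Cfsg.Agent.LeechAut.Cross Data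
open Cfsg.Agent.Golay.M24 (tabAt)
open MonsterCent.Seven (Cl cls_zero' eq_zero_of_short)

/-- A digit of a packed vector. -/
def dig (c j : ℕ) : ℤ := ((c / 16 ^ j % 16 : ℕ) : ℤ) - 8

/-- A packed vector. -/
def sVec (c : ℕ) : Vec := fun p => dig c (orbIdx.getD (ix p) 0)

/-- The first non-zero digit is positive. -/
def lead (c : ℕ) : Bool :=
  match ((List.range 12).map (dig c)).find? (fun d => d != 0) with
  | some d => decide (0 < d)
  | none => false

/-- A valid short vector. -/
def okShort (c : ℕ) : Bool :=
  inLat (sVec c) && decide (sqNorm (sVec c) ≤ 48) && decide (c < 16 ^ 12) && lead c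

/-- Strictly increasing lists. -/
def incr : List ℕ → Bool
  | [] => true
  | [_] => true
  | a :: b :: l => decide (a < b) && incr (b :: l)

theorem incr_pairwise : ∀ l : List ℕ, incr l = true → l.Pairwise (· < ·)
  | [], _ => List.Pairwise.nil
  | [a], _ => List.pairwise_singleton _ a
  | a :: b :: l, h => by
    simp only [incr, Bool.and_eq_true, decide_eq_true_eq] at h
    have ih := incr_pairwise (b :: l) h.2
    refine List.pairwise_cons.2 ⟨fun x hx => ?_, ih⟩
    rcases List.mem_cons.1 hx with rfl | hx
    · exact h.1
    · exact h.1.trans ((List.pairwise_cons.1 ih).1 x hx)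

/-- All the short vectors. -/
def allShort : List ℕ := shortList.flatten

theorem allShort_shape : incr allShort = true ∧ allShort.length = 2394 := by decide +kernel

theorem short0_ok : short0.all okShort = true := by decide +kernel

theorem short1_ok : short1.all okShort = true := by decide +kernel

theorem short2_ok : short2.all okShort = true := by decide +kernel

theorem short3_ok : short3.all okShort = true := by decide +kernel

theorem short4_ok : short4.all okShort = true := by decide +kernel

theorem short5_ok : short5.all okShort = true := by decide +kernel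

theorem short6_ok : short6.all okShort = true := by decide +kernel

theorem short7_ok : short7.all okShort = true := by decide +kernel

theorem short8_ok : short8.all okShort = true := by decide +kernel

theorem short9_ok : short9.all okShort = true := by decide +kernel

theorem short10_ok : short10.all okShort = true := by decide +kernel

theorem short11_ok : short11.all okShort = true := by decide +kernel

theorem allShort_ok {c : ℕ} (h : c ∈ allShort) : okShort c = true := by
  simp only [allShort, shortList, List.mem_flatten, List.mem_cons, List.not_mem_nil, or_false] at h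
  obtain ⟨l, hl, hc⟩ := h
  rcases hl with rfl | rfl | rfl | rfl | rfl | rfl | rfl | rfl | rfl | rfl | rfl | rfl
  · exact List.all_eq_true.1 short0_ok c hc
  · exact List.all_eq_true.1 short1_ok c hc
  · exact List.all_eq_true.1 short2_ok c hc
  · exact List.all_eq_true.1 short3_ok c hc
  · exact List.all_eq_true.1 short4_ok c hc
  · exact List.all_eq_true.1 short5_ok c hc
  · exact List.all_eq_true.1 short6_ok c hc
  · exact List.all_eq_true.1 short7_ok c hc
  · exact List.all_eq_true.1 short8_ok c hc
  · exact List.all_eq_true.1 short9_ok c hc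
  · exact List.all_eq_true.1 short10_ok c hc
  · exact List.all_eq_true.1 short11_ok c hc

theorem orb_facts : (∀ p : GolayPt, orbIdx.getD (tabAt sigTab (ix p)) 0 = orbIdx.getD (ix p) 0) ∧
    (∀ j : Fin 12, orbIdx.getD (ix (pt (orbReps.getD j 0))) 0 = (j : ℕ)) := by decide +kernel

theorem sVec_fixed (c : ℕ) (p : GolayPt) : sVec c (tau0 p) = sVec c p := by
  rw [sVec, sVec, ix_tau0, orb_facts.1]

theorem dig_eq {a b : ℕ} : ∀ {n : ℕ}, (∀ j < n, dig a j = dig b j) → a % 16 ^ n = b % 16 ^ n
  | 0, _ => by simp [Nat.mod_one]
  | n + 1, h => by
    have ih := dig_eq fun j hj => h j (Nat.lt_succ_of_lt hj)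
    have hn := h n (Nat.lt_succ_self n)
    simp only [dig, sub_left_inj, Nat.cast_inj] at hn
    rw [pow_succ, Nat.mod_mul, Nat.mod_mul, ih, hn]

theorem sVec_dig {a b : ℕ} (s : ℤ) (h : ∀ p, sVec a p = s * sVec b p) {j : ℕ} (hj : j < 12) :
    dig a j = s * dig b j := by
  have := h (pt (orbReps.getD j 0))
  rwa [sVec, sVec, orb_facts.2 ⟨j, hj⟩] at this

theorem sVec_inj {a b : ℕ} (ha : okShort a = true) (hb : okShort b = true)
    (h : ∀ p, sVec a p = sVec b p) : a = b := by
  simp only [okShort, Bool.and_eq_true, decide_eq_true_eq] at ha hb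
  have := dig_eq (a := a) (b := b) (n := 12) fun j hj => by
    simpa using sVec_dig 1 (fun p => by rw [h p, one_mul]) hj
  rwa [Nat.mod_eq_of_lt ha.1.2, Nat.mod_eq_of_lt hb.1.2] at this

theorem sVec_neg {a b : ℕ} (ha : okShort a = true) (hb : okShort b = true)
    (h : ∀ p, sVec a p = -sVec b p) : False := by
  simp only [okShort, Bool.and_eq_true, lead] at ha hb
  have e : (List.range 12).map (dig a) = ((List.range 12).map (dig b)).map (fun d => -d) := by
    rw [List.map_map]
    refine List.map_congr_left fun j hj => ?_
    show dig a j = -dig b j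
    rw [sVec_dig (a := a) (b := b) (-1) (fun p => by rw [h p, neg_one_mul]) (List.mem_range.1 hj), neg_one_mul]
  have hp : ((fun d : ℤ => d != 0) ∘ fun d => -d) = fun d => d != 0 := by
    funext d
    show (-d != 0) = (d != 0)
    rcases eq_or_ne d 0 with rfl | hd
    · rfl
    · rw [bne_iff_ne.2 hd, bne_iff_ne.2 (neg_ne_zero.2 hd)]
  rw [e, List.find?_map, hp] at ha
  cases hf : ((List.range 12).map (dig b)).find? (fun d => d != 0) with
  | none => rw [hf] at hb; exact Bool.noConfusion hb.2
  | some d =>
    rw [hf] at ha hb
    simp only [Option.map_some, decide_eq_true_eq] at ha hb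
    omega

/-- Classes containing a vector of squared length 64. -/
def Big (c : Cl) : Prop := ∃ v, cls v = c ∧ sqNorm (v : Vec) = 64

theorem card_big : Nat.card {c : Cl // FixC c ∧ Big c} ≤ 1701 := by
  classical
  haveI : Finite {c : Cl // FixC c} := Nat.finite_of_card_ne_zero (by rw [card_fixed]; norm_num)
  let V : Fin allShort.length → leechLattice := fun i =>
    ⟨sVec (allShort[i.1]), mem_of_inLat (by
      have h := allShort_ok (List.getElem_mem i.2)
      simp only [okShort, Bool.and_eq_true] at h
      exact h.1.1.1)⟩
  have hVok : ∀ i, okShort (allShort[(i : Fin allShort.length).1]) = true := fun i =>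
    allShort_ok (List.getElem_mem i.2)
  have hVn : ∀ i, sqNorm (V i : Vec) ≤ 48 := fun i => by
    have h := hVok i
    simp only [okShort, Bool.and_eq_true, decide_eq_true_eq] at h
    exact h.1.1.2
  have hVs : ∀ i, Fixed (V i) := fun i => (fixed_iff _).2 (sVec_fixed _)
  have hV0 : ∀ i, sqNorm (V i : Vec) ≠ 0 := by
    intro i h0
    have hz : ∀ p, (V i : Vec) p = 0 := fun p => by
      have := (Finset.sum_eq_zero_iff_of_nonneg (fun q _ => sq_nonneg _)).1 h0 p (Finset.mem_univ p)
      exact pow_eq_zero_iff (n := 2) (by norm_num) |>.1 this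
    exact sVec_neg (hVok i) (hVok i) fun p => by
      show (V i : Vec) p = -(V i : Vec) p
      rw [hz p, neg_zero]
  let f : Option (Fin allShort.length) → {x : {c : Cl // FixC c} // ¬ Big x.1} := fun o =>
    match o with
    | none => ⟨⟨cls 0, 0, rfl, by rw [smul_zero']⟩, by
        rintro ⟨w, hw, hw64⟩
        have := eq_zero_of_short hw64.le (hw.trans cls_zero')
        omega⟩
    | some i => ⟨⟨cls (V i), V i, rfl, by rw [hVs i]⟩, by
        rintro ⟨w, hw, hw64⟩
        have h48 := hVn i
        rcases short_eq_of_cls leech_shells (x := V i) (y := w) (by rw [lform_self]; omega)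
          (by rw [lform_self]; omega) hw with e | e <;> rw [e] at hw64
        · omega
        · rw [AddSubgroup.coe_neg] at hw64
          simp only [sqNorm, Pi.neg_apply, neg_sq] at hw64 h48
          omega⟩
  have hf : Function.Injective f := by
    intro a b h
    have h' : (f a).1.1 = (f b).1.1 := congrArg (fun x => x.1.1) h
    match a, b with
    | none, none => rfl
    | none, some i =>
      exfalso
      exact hV0 i (eq_zero_of_short ((hVn i).trans (by norm_num)) (h'.symm.trans cls_zero'))
    | some i, none =>
      exfalso
      exact hV0 i (eq_zero_of_short ((hVn i).trans (by norm_num)) (h'.trans cls_zero'))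
    | some i, some j =>
      rcases short_eq_of_cls leech_shells (x := V i) (y := V j) (by rw [lform_self]; exact hVn i)
        (by rw [lform_self]; exact (hVn j).trans (by norm_num)) h'.symm with e | e
      · have hij := sVec_inj (hVok j) (hVok i) fun p => congrFun (congrArg Subtype.val e) p
        have hnd : allShort.Nodup := (incr_pairwise _ allShort_shape.1).imp fun h => ne_of_lt h
        exact congrArg some (Fin.ext ((hnd.getElem_inj_iff).1 hij.symm))
      · exact absurd (fun p => congrFun (congrArg Subtype.val e) p) fun hp =>
          sVec_neg (hVok j) (hVok i) hp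
  have h1 := Nat.card_le_card_of_injective f hf
  rw [Nat.card_eq_fintype_card, Fintype.card_option, Fintype.card_fin, allShort_shape.2] at h1
  have h2 : Nat.card {c : Cl // FixC c} =
      Nat.card {x : {c : Cl // FixC c} // Big x.1} + Nat.card {x : {c : Cl // FixC c} // ¬ Big x.1} := by
    rw [← Nat.card_sum]
    exact Nat.card_congr (Equiv.sumCompl _).symm
  have h3 : Nat.card {c : Cl // FixC c ∧ Big c} = Nat.card {x : {c : Cl // FixC c} // Big x.1} :=
    Nat.card_congr (Equiv.subtypeSubtypeEquivSubtypeInter FixC Big).symm
  rw [card_fixed] at h2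
  omega

end Cfsg.Agent.LargeExtra.MonsterFischer
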