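import Cfsg.Agent.Lib.LargeExtra.MonsterFischer.Stab
import Cfsg.Agent.Lib.LargeExtra.MonsterFischer.Short

/-!
The centralizer of the element of order three has order at most 117573120.
-/

set_option autoImplicit false

namespace Cfsg.Agent.LargeExtra.MonsterFischer

open Cfsg Cfsg.Agent.Leech.Basic Cfsg.Agent.Leech.Classes Cfsg.Agent.Leech.Mod2
  Cfsg.Agent.LeechAut.Basic Cfsg.Agent.LeechAut.Cross Cfsg.Agent.LeechAut.Maximal
open MonsterCent.Seven (Cl)

theorem fixed_frame_none : Fixed (frame none) := pair_facts.1 ▸ fixed_frame (Fin.last 5)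

theorem card_C0_le : Nat.card C0 ≤ 117573120 := by
  classical
  haveI := finite_Co0
  haveI : Finite {c : Cl // FixC c} := Nat.finite_of_card_ne_zero (by rw [card_fixed]; norm_num)
  haveI : Finite {c : Cl // FixC c ∧ Big c} :=
    Finite.of_injective (β := {c : Cl // FixC c}) (fun x => ⟨x.1, x.2.1⟩)
      fun a b h => Subtype.ext (congrArg Subtype.val h :)
  let f : C0 → {c : Cl // FixC c ∧ Big c} := fun g =>
    ⟨cls ((g : Cfsg.Co0) • frame none), ⟨_, rfl, by rw [fixed_frame_none.smul g.2]⟩,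
      _, rfl, by rw [sqNorm_smul]; exact sqNorm_frame none⟩
  let r : Set.range f → C0 := fun c => c.2.choose
  have hr : ∀ c, f (r c) = c.1 := fun c => c.2.choose_spec
  have hT : ∀ g, (((r ⟨f g, g, rfl⟩)⁻¹ * g : C0) : Cfsg.Co0) ∈ T0 := by
    intro g
    refine ⟨((r ⟨f g, g, rfl⟩)⁻¹ * g).2, ?_⟩
    rw [← MonsterPair.clsStab_frame]
    show cls ((((r ⟨f g, g, rfl⟩)⁻¹ * g : C0) : Cfsg.Co0) • frame none) = cls (frame none)
    have e : cls ((g : Cfsg.Co0) • frame none) = cls ((r ⟨f g, g, rfl⟩ : Cfsg.Co0) • frame none) :=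
      (congrArg Subtype.val (hr ⟨f g, g, rfl⟩)).symm
    rw [Subgroup.coe_mul, Subgroup.coe_inv, mul_smul, MonsterPair.cls_smul _ e, inv_smul_smul]
  let F : C0 → {c : Cl // FixC c ∧ Big c} × T0 := fun g => (f g, ⟨_, hT g⟩)
  have hF : Function.Injective F := by
    intro a b e
    have e1 : f a = f b := congrArg Prod.fst e
    have e2 : (r ⟨f a, a, rfl⟩)⁻¹ * a = (r ⟨f b, b, rfl⟩)⁻¹ * b :=
      Subtype.ext (congrArg (fun x => ((x.2 : T0) : Cfsg.Co0)) e)
    have e3 : (⟨f a, a, rfl⟩ : Set.range f) = ⟨f b, b, rfl⟩ := Subtype.ext e1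
    rw [e3] at e2
    exact mul_left_cancel e2
  have h := Nat.card_le_card_of_injective F hF
  rw [Nat.card_prod] at h
  exact h.trans ((Nat.mul_le_mul card_big card_T0).trans (by norm_num))

end Cfsg.Agent.LargeExtra.MonsterFischer
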