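import Cfsg.Agent.Lib.LeechAut.Maximal
import Cfsg.Agent.Lib.LargeExtra.MonsterCent.SevenStab
import Cfsg.Agent.Lib.LargeExtra.MonsterFischer.Data

/-!
An element of order three of the stabiliser of the standard cross with six fixed coordinates, some
elements centralising it, and a group of order 27 of coordinate permutations around it.
-/

set_option autoImplicit false
set_option maxRecDepth 100000
set_option maxHeartbeats 4000000

namespace Cfsg.Agent.LargeExtra.MonsterFischer

open Cfsg Cfsg.Agent.Golay.Basic Cfsg.Agent.Golay.Cert Cfsg.Agent.Leech.Basic Cfsg.Agent.Leech.Index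
  Cfsg.Agent.LeechAut.Gens Cfsg.Agent.LeechAut.Basic Cfsg.Agent.LeechAut.Cross Cfsg.Agent.LeechAut.Co1
  Cfsg.Agent.LeechAut.Shapes Cfsg.Agent.LeechAut.Maximal Data
open Cfsg.Agent.Golay.M24 (tabAt)
open scoped Pointwise

/-! ### Tables -/

theorem ix_tab {t : ℕ} (h : tabOK t = true) (p : GolayPt) : ix (tabPerm t p) = tabAt t (ix p) :=
  isTab_tabPerm h p

theorem tab_mul {a b c : ℕ} (ha : tabOK a = true) (hb : tabOK b = true) (hc : tabOK c = true)
    (h : ∀ i : Fin 24, tabAt a (tabAt b i) = tabAt c i) : tabPerm a * tabPerm b = tabPerm c := by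
  refine Equiv.ext fun p => ix_injective ?_
  rw [Equiv.Perm.mul_apply, ix_tab ha, ix_tab hb, ix_tab hc]
  exact h ⟨ix p, ix_lt p⟩

theorem sigTab_ok : tabOK sigTab = true ∧ tabOK invTab = true := by decide +kernel

/-- The permutation of the coordinates. -/
noncomputable def tau0 : Equiv.Perm GolayPt := tabPerm sigTab

theorem tau0_mem : tau0 ∈ Cfsg.M24 := tabPerm_mem sigTab_ok.1

theorem ix_tau0 (p : GolayPt) : ix (tau0 p) = tabAt sigTab (ix p) := ix_tab sigTab_ok.1 p

theorem tau0_pt (i : Fin 24) : tau0 (pt i) = pt (tabAt sigTab i) := by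
  rw [← pt_ix (tau0 (pt i)), ix_tau0, ix_pt i.2]

theorem tau0_cube : tau0 ^ 3 = 1 := by
  refine Equiv.ext fun p => ix_injective ?_
  simp only [pow_succ, pow_zero, one_mul, Equiv.Perm.mul_apply, Equiv.Perm.one_apply, ix_tau0]
  revert p
  decide +kernel

/-- The element of `M24`. -/
noncomputable def sgP : Cfsg.M24 := ⟨tau0⁻¹, Cfsg.M24.inv_mem tau0_mem⟩

/-- The element of order three. -/
noncomputable def sig : Cfsg.Co0 := permHom sgP

theorem sig_smul (v : leechLattice) (p : GolayPt) :
    ((sig • v : leechLattice) : Vec) p = (v : Vec) (tau0 p) := by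
  rw [sig, permHom_smul]
  simp [sgP]

theorem sig_mem : sig ∈ crossStab := permHom_mem _

theorem sig_eq_mono : sig = mono (sgP, ⟨∅, empty_mem⟩) := MonsterPair.permHom_eq_mono _

theorem lst_sig (v : leechLattice) : lst ((sig • v : leechLattice) : Vec) = runL sigOs (lst (v : Vec)) := by
  have h : runL sigOs (lst (v : Vec)) =
      (List.range 24).map fun i => (lst (v : Vec)).getD (tabAt sigTab i) 0 := rfl
  rw [h, lst]
  refine List.map_congr_left fun i hi => ?_
  rw [sig_smul, ← getD_lst (v : Vec) (tau0 (pt i)), ix_tau0, ix_pt (List.mem_range.1 hi)]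

/-- The coordinates of a vector of the frame. -/
def frL (q : ℕ) : List ℤ := (List.range 24).map fun j => if j = q then 8 else 0

theorem frL_eq (p : GolayPt) : lst ((frame p : leechLattice) : Vec) = frL (ix p) := by
  rw [frame_coe, lst, frL]
  refine List.map_congr_left fun i hi => ?_
  have hi' := List.mem_range.1 hi
  rw [Pi.single_apply]
  by_cases h : pt i = p
  · rw [if_pos h, if_pos (by rw [← h, ix_pt hi'])]
  · rw [if_neg h, if_neg fun e => h (by rw [e, pt_ix])]

/-- Two elements agreeing on the frame are equal. -/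
theorem ext_frames {g h : Cfsg.Co0} (e : ∀ p : GolayPt,
    lst ((g • frame p : leechLattice) : Vec) = lst ((h • frame p : leechLattice) : Vec)) : g = h :=
  MonsterCent.Seven.eq_of_frames fun p => lst_injective (e p)

theorem sig_word : wordG sigOs = sig :=
  ext_frames fun p => by rw [wordG_spec sigOs (by decide +kernel), lst_sig]

theorem sig_cube : sig ^ 3 = 1 := by
  have h : sgP ^ 3 = 1 := by
    refine Subtype.ext ?_
    rw [SubmonoidClass.coe_pow]
    show tau0⁻¹ ^ 3 = 1
    rw [inv_pow, tau0_cube, inv_one]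
  rw [sig, ← map_pow, h, map_one]

theorem sig_ne_one : sig ≠ 1 := by
  intro e
  have h := lst_sig (frame (pt 0))
  rw [e, one_smul, frL_eq] at h
  revert h
  decide +kernel

theorem orderOf_sig : orderOf sig = 3 :=
  orderOf_eq_prime (hp := ⟨by norm_num⟩) sig_cube sig_ne_one

/-! ### Elements centralising it -/

/-- A sign change of all coordinates. -/
def negOs : List (ℕ × ℕ) := [(1, 16777215)]

/-- All the words. -/
def allOs : List (List (ℕ × ℕ)) := genOs ++ [sigOs, omOs, negOs]

/-- The word in position `i`. -/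
def gos (i : Fin 13) : List (ℕ × ℕ) := allOs.getD i []

/-- The element in position `i`. -/
noncomputable def gel (i : Fin 13) : Cfsg.Co0 := wordG (gos i)

theorem gos_ok : ∀ i : Fin 13, (gos i).all opOK = true := by decide +kernel

theorem gos_comm : ∀ i : Fin 13, ∀ q : Fin 24,
    runL (gos i) (runL sigOs (frL q)) = runL sigOs (runL (gos i) (frL q)) := by decide +kernel

theorem gel_smul (i : Fin 13) (v : leechLattice) :
    lst ((gel i • v : leechLattice) : Vec) = runL (gos i) (lst (v : Vec)) :=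
  wordG_spec _ (gos_ok i) v

theorem gel_comm (i : Fin 13) : gel i * sig = sig * gel i := by
  refine ext_frames fun p => ?_
  simp only [mul_smul, gel_smul, lst_sig, frL_eq]
  exact gos_comm i ⟨ix p, ix_lt p⟩

/-- The centralizer of the element. -/
abbrev C0 : Subgroup Cfsg.Co0 := Subgroup.centralizer ({sig} : Set Cfsg.Co0)

theorem mem_C0 {g : Cfsg.Co0} : g ∈ C0 ↔ g * sig = sig * g := Subgroup.mem_centralizer_singleton_iff

/-- The element in position `i`, in the centralizer. -/
noncomputable def gC (i : Fin 13) : C0 := ⟨gel i, mem_C0.2 (gel_comm i)⟩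

/-! ### Vectors fixed by the element -/

/-- A vector fixed by the element. -/
def Fixed (v : leechLattice) : Prop := sig • v = v

theorem fixed_iff (v : leechLattice) :
    Fixed v ↔ ∀ p, (v : Vec) (tau0 p) = (v : Vec) p := by
  refine ⟨fun h p => ?_, fun h => Subtype.ext (funext fun p => by rw [sig_smul, h])⟩
  rw [← sig_smul, h]

theorem Fixed.smul {g : Cfsg.Co0} (hg : g ∈ C0) {v : leechLattice} (hv : Fixed v) : Fixed (g • v) := by
  show sig • g • v = g • v
  rw [← mul_smul, ← mem_C0.1 hg, mul_smul, hv]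

theorem Fixed.neg {v : leechLattice} (hv : Fixed v) : Fixed (-v) := by
  show sig • (-v) = -v
  rw [smul_neg', hv]

theorem fixed_of_lst {v : leechLattice} (h : runL sigOs (lst (v : Vec)) = lst (v : Vec)) : Fixed v :=
  Subtype.ext (lst_injective ((lst_sig v).trans h))

/-! ### The group of order 27 -/

/-- The table in position `i`. -/
def hT (i : Fin 27) : ℕ := heisTabs.getD i 0

theorem hT_ok : ∀ i, tabOK (hT i) = true := by decide +kernel

theorem hT_mul : ∀ i j, ∃ k, ∀ p : Fin 24, tabAt (hT i) (tabAt (hT j) p) = tabAt (hT k) p := by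
  decide +kernel

theorem hT_inv : ∀ i, ∃ k, ∀ p : Fin 24, tabAt (hT k) (tabAt (hT i) p) = p := by decide +kernel

theorem hT_one : ∀ p : Fin 24, tabAt (hT 0) p = p := by decide +kernel

theorem hT_sig : ∀ p : Fin 24, tabAt (hT 2) p = tabAt sigTab p := by decide +kernel

theorem hT_inj : ∀ i j, (∀ p : Fin 24, tabAt (hT i) p = tabAt (hT j) p) → i = j := by decide +kernel

theorem hT_comm_sig : ∀ i : Fin 27, ∀ p : Fin 24,
    tabAt (hT i) (tabAt (hT 2) p) = tabAt (hT 2) (tabAt (hT i) p) := by decide +kernel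

theorem hT_center : ∀ i : Fin 27,
    (∀ p : Fin 24, tabAt (hT i) (tabAt (hT 9) p) = tabAt (hT 9) (tabAt (hT i) p) ∧
      tabAt (hT i) (tabAt (hT 3) p) = tabAt (hT 3) (tabAt (hT i) p)) →
    i = 0 ∨ i = 1 ∨ i = 2 := by decide +kernel

theorem hT_two : ∀ p : Fin 24, tabAt (hT 2) (tabAt (hT 2) p) = tabAt (hT 1) p := by decide +kernel

/-- The permutation in position `i`. -/
noncomputable def hP (i : Fin 27) : Cfsg.M24 := ⟨tabPerm (hT i), tabPerm_mem (hT_ok i)⟩

theorem ix_hP (i : Fin 27) (p : GolayPt) :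
    ix ((hP i : Equiv.Perm GolayPt) p) = tabAt (hT i) (ix p) := ix_tab (hT_ok i) p

theorem hP_mul {i j k : Fin 27} (h : ∀ p : Fin 24, tabAt (hT i) (tabAt (hT j) p) = tabAt (hT k) p) :
    hP i * hP j = hP k :=
  Subtype.ext (tab_mul (hT_ok i) (hT_ok j) (hT_ok k) h)

theorem hP_zero : hP 0 = 1 := by
  refine Subtype.ext (Equiv.ext fun p => ix_injective ?_)
  rw [ix_hP]
  exact hT_one ⟨ix p, ix_lt p⟩

theorem hP_two : hP 2 = sgP⁻¹ := by
  refine Subtype.ext ?_
  show tabPerm (hT 2) = (tau0⁻¹)⁻¹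
  rw [inv_inv]
  refine Equiv.ext fun p => ix_injective ?_
  rw [ix_tab (hT_ok 2), ix_tau0]
  exact hT_sig ⟨ix p, ix_lt p⟩

theorem hP_injective : Function.Injective hP := fun i j e => hT_inj i j fun p => by
  have h := congrArg (fun u : Cfsg.M24 => ix ((u : Equiv.Perm GolayPt) (pt p))) e
  simpa only [ix_hP, ix_pt p.2] using h

/-- The group of order 27. -/
noncomputable def heis : Subgroup Cfsg.M24 where
  carrier := Set.range hP
  one_mem' := ⟨0, hP_zero⟩
  mul_mem' := by
    rintro _ _ ⟨i, rfl⟩ ⟨j, rfl⟩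
    obtain ⟨k, hk⟩ := hT_mul i j
    exact ⟨k, (hP_mul hk).symm⟩
  inv_mem' := by
    rintro _ ⟨i, rfl⟩
    obtain ⟨k, hk⟩ := hT_inv i
    refine ⟨k, eq_inv_of_mul_eq_one_left ?_⟩
    rw [hP_mul (k := 0) fun p => (hk p).trans (hT_one p).symm, hP_zero]

theorem card_heis : Nat.card heis = 27 := by
  show Nat.card (Set.range hP) = 27
  rw [Nat.card_range_of_injective hP_injective, Nat.card_eq_fintype_card, Fintype.card_fin]

theorem sgP_mem_heis : sgP ∈ heis := by
  have h : sgP⁻¹ ∈ heis := hP_two ▸ (⟨2, rfl⟩ : hP 2 ∈ heis)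
  simpa using heis.inv_mem h

theorem sgP_comm_heis {x : Cfsg.M24} (hx : x ∈ heis) : sgP * x = x * sgP := by
  obtain ⟨i, rfl⟩ := hx
  obtain ⟨k, hk⟩ := hT_mul i 2
  have h1 : hP i * hP 2 = hP k := hP_mul hk
  have h2 : hP 2 * hP i = hP k := hP_mul fun p => by rw [← hT_comm_sig, hk]
  have h3 : Commute (hP i) sgP⁻¹ := by rw [← hP_two]; exact h1.trans h2.symm
  exact (Commute.inv_right_iff.1 h3).eq.symm

/-- The centre of that group. -/
theorem heis_center {x : Cfsg.M24} (hx : x ∈ heis) (h : ∀ y ∈ heis, x * y = y * x) :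
    x ∈ Subgroup.zpowers sgP := by
  obtain ⟨i, rfl⟩ := hx
  have hc : ∀ j : Fin 27, ∀ p : Fin 24,
      tabAt (hT i) (tabAt (hT j) p) = tabAt (hT j) (tabAt (hT i) p) := fun j p => by
    have e := congrArg (fun u : Cfsg.M24 => ix ((u : Equiv.Perm GolayPt) (pt p))) (h (hP j) ⟨j, rfl⟩)
    simp only [Subgroup.coe_mul, Equiv.Perm.mul_apply, ix_hP, ix_pt p.2] at e
    exact e
  rcases hT_center i fun p => ⟨hc 9 p, hc 3 p⟩ with rfl | rfl | rfl
  · rw [hP_zero]; exact one_mem _
  · rw [← hP_mul hT_two, hP_two]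
    exact mul_mem (inv_mem (Subgroup.mem_zpowers _)) (inv_mem (Subgroup.mem_zpowers _))
  · rw [hP_two]; exact inv_mem (Subgroup.mem_zpowers _)

/-- An element inverting the element of order three. -/
noncomputable def invP : Cfsg.M24 := ⟨tabPerm invTab, tabPerm_mem sigTab_ok.2⟩

theorem inv_test : ∀ p : Fin 24,
    tabAt sigTab (tabAt invTab (tabAt sigTab p)) = tabAt invTab p := by decide +kernel

theorem invP_conj : invP * sgP * invP⁻¹ = sgP⁻¹ := by
  have h : tau0 * tabPerm invTab * tau0 = tabPerm invTab := by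
    refine Equiv.ext fun p => ix_injective ?_
    simp only [Equiv.Perm.mul_apply, ix_tau0, ix_tab sigTab_ok.2]
    exact inv_test ⟨ix p, ix_lt p⟩
  refine Subtype.ext ?_
  show tabPerm invTab * tau0⁻¹ * (tabPerm invTab)⁻¹ = (tau0⁻¹)⁻¹
  rw [inv_inv, mul_inv_eq_iff_eq_mul]
  calc tabPerm invTab * tau0⁻¹ = tau0 * tabPerm invTab * tau0 * tau0⁻¹ := by rw [h]
    _ = tau0 * tabPerm invTab := mul_inv_cancel_right _ _

end Cfsg.Agent.LargeExtra.MonsterFischer
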