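import Cfsg.Agent.GroupStructure3.McLStab.Main
import Cfsg.Agent.Lib.LargeExtra.MonsterFischer.Count
import Cfsg.Agent.Lib.LargeExtra.MonsterFischer.Chain

/-!
The centralizer of the element of order three has order 117573120; its image on the 112 points has
a subgroup of index two isomorphic to the simple unitary group of dimension four over nine elements.
-/

set_option autoImplicit false
set_option maxRecDepth 100000
set_option maxHeartbeats 4000000

namespace Cfsg.Agent.LargeExtra.MonsterFischer

open Cfsg Cfsg.Agent.Golay.Basic Cfsg.Agent.LeechAut.Gens Cfsg.Agent.LeechAut.Cross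
  Cfsg.Agent.LeechAut.Basic Cfsg.Agent.LeechAut.Shapes
open Cfsg.Agent.GroupStructure3.McLStab (Au card_Au_le exists_nine)

theorem gel_pow_smul (i : Fin 13) : ∀ (n : ℕ) (v : leechLattice),
    lst ((gel i ^ n • v : leechLattice) : Cfsg.GolayPt → ℤ) = (runL (gos i))^[n] (lst (v : Cfsg.GolayPt → ℤ))
  | 0, v => by rw [pow_zero, one_smul]; rfl
  | n + 1, v => by
    rw [pow_succ, mul_smul, gel_pow_smul i n, gel_smul, Function.iterate_succ_apply]

/-- The image of a frame vector under the product of powers of the three trivially acting elements. -/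
def kerRow (t : Fin 3 × Fin 3 × Fin 2) (q : Fin 24) : List ℤ :=
  (runL (gos 10))^[t.1.1] ((runL (gos 11))^[t.2.1.1] ((runL (gos 12))^[t.2.2.1] (frL q)))

theorem kerRow_inj : ∀ t t', (∀ q, kerRow t q = kerRow t' q) → t = t' := by decide +kernel

theorem pimg_triv : ∀ k : Fin 112, pimg 10 k = k ∧ pimg 11 k = k ∧ pimg 12 k = k := by decide +kernel

theorem card_ker_ge : 18 ≤ Nat.card J.ker := by
  haveI := finite_Co0
  have h10 : J (gC 10) = 1 := Equiv.ext fun k => by rw [J_gC, (pimg_triv k).1, Equiv.Perm.one_apply]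
  have h11 : J (gC 11) = 1 := Equiv.ext fun k => by rw [J_gC, (pimg_triv k).2.1, Equiv.Perm.one_apply]
  have h12 : J (gC 12) = 1 := Equiv.ext fun k => by rw [J_gC, (pimg_triv k).2.2, Equiv.Perm.one_apply]
  let F : Fin 3 × Fin 3 × Fin 2 → J.ker := fun t =>
    ⟨gC 10 ^ (t.1 : ℕ) * gC 11 ^ (t.2.1 : ℕ) * gC 12 ^ (t.2.2 : ℕ), by
      rw [MonoidHom.mem_ker]
      simp only [map_mul, map_pow, h10, h11, h12, one_pow, one_mul]⟩
  have hF : Function.Injective F := by
    intro t t' e
    refine kerRow_inj t t' fun q => ?_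
    have e' := congrArg (fun u : J.ker => lst ((((u : C0) : Cfsg.Co0) • frame (pt q) : leechLattice) :
      Cfsg.GolayPt → ℤ)) e
    show kerRow t q = kerRow t' q
    unfold kerRow
    simpa only [F, Subgroup.coe_mul, Subgroup.coe_pow, gC, mul_smul, gel_pow_smul, frL_eq, ix_pt q.2]
      using e'
  have h := Nat.card_le_card_of_injective F hF
  rwa [Nat.card_eq_fintype_card, Fintype.card_prod, Fintype.card_prod, Fintype.card_fin,
    Fintype.card_fin] at h

theorem card_facts :
    Nat.card C0 = 117573120 ∧ Nat.card J.ker = 18 ∧ Nat.card J.range = 6531840 := by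
  haveI := finite_Co0
  have h := J.ker.card_mul_index
  rw [Subgroup.index_ker] at h
  have h1 := card_C0_le
  have h2 := card_ker_ge
  have h3 := card_range_ge
  have h4 : Nat.card J.ker ≤ 18 := by
    by_contra h'
    have := Nat.mul_le_mul (show 19 ≤ Nat.card J.ker by omega) h3
    omega
  have h5 : Nat.card J.ker = 18 := by omega
  rw [h5] at h
  omega

theorem card_PSU {F : Type} [Field F] [Fintype F] (hF : Fintype.card F = 9) :
    IsSimpleGroup (Cfsg.PSU 4 F 3) ∧ Nat.card (Cfsg.PSU 4 F 3) = 3265920 := by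
  classical
  have hq : Fintype.card F = 3 ^ 2 := hF
  refine ⟨Cfsg.Agent.Classical.Unitary.isSimpleGroup_PSU hq (by norm_num) (by norm_num), ?_⟩
  have h := Cfsg.Agent.Classical.Unitary.natCard_PSU_mul (n := 4) hq (by norm_num)
  rw [Cfsg.Agent.Classical.Unitary.natCard_GU hq, show Nat.gcd 4 (3 + 1) = 4 from rfl] at h
  simp [Finset.prod_range_succ, Nat.even_iff] at h ⊢
  norm_num at h ⊢
  linarith

/-- The unitary group in the image. -/
theorem exists_P {F : Type} [Field F] [Fintype F] (hF : Fintype.card F = 9) :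
    ∃ P : Subgroup J.range, P.index = 2 ∧ Nonempty (P ≃* Cfsg.PSU 4 F 3) := by
  classical
  obtain ⟨D⟩ := exists_nine hF
  obtain ⟨hs, hcard⟩ := card_PSU hF
  haveI := hs
  let Hh : Subgroup Au := J.range.subgroupOf Au
  have hle' : J.range ≤ Au := by rintro _ ⟨g, rfl⟩; exact J_mem_Au g
  have hHh : Nat.card Hh = 6531840 := by
    rw [Nat.card_congr (Subgroup.subgroupOfEquivOfLe hle').toEquiv, card_facts.2.2]
  let K : Subgroup (Cfsg.PSU 4 F 3) := Hh.comap D.pperm
  have hK : K = ⊤ := by
    by_contra hne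
    have hi4 : K.index ≤ 4 := by
      have h1 : K.index ≤ Hh.index := by
        rw [Subgroup.index_comap]
        refine (Subgroup.relIndex_le_of_le_right le_top ?_).trans_eq (Subgroup.relIndex_top_right Hh)
        rw [Subgroup.relIndex_top_right]
        exact Hh.index_ne_zero_of_finite
      have h2 := Hh.card_mul_index
      have h3 : Nat.card Au ≤ 26127360 := card_Au_le
      rw [hHh] at h2
      omega
    let φ := MulAction.toPermHom (Cfsg.PSU 4 F 3) (Cfsg.PSU 4 F 3 ⧸ K)
    have hφ : Function.Injective φ := by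
      rw [← MonoidHom.ker_eq_bot_iff]
      refine (IsSimpleGroup.eq_bot_or_eq_top_of_normal _ inferInstance).resolve_right fun h => hne ?_
      rw [eq_top_iff]
      intro g _
      have h1 : φ g = 1 := by rw [← MonoidHom.mem_ker, h]; exact Subgroup.mem_top g
      have h2 := DFunLike.congr_fun h1 ((1 : Cfsg.PSU 4 F 3) : Cfsg.PSU 4 F 3 ⧸ K)
      have h3 : ((g * 1 : Cfsg.PSU 4 F 3) : Cfsg.PSU 4 F 3 ⧸ K) = ((1 : Cfsg.PSU 4 F 3) : _) := h2
      rw [QuotientGroup.eq, mul_one, mul_one, inv_mem_iff] at h3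
      exact h3
    have h4 := Nat.card_le_card_of_injective φ hφ
    rw [hcard, Nat.card_perm, ← Subgroup.index_eq_card] at h4
    have h5 := Nat.factorial_le hi4
    norm_num [Nat.factorial] at h5
    omega
  let P0 : Subgroup (Equiv.Perm (Fin 112)) := D.pperm.range.map Au.subtype
  have hle : P0 ≤ J.range := by
    rintro _ ⟨_, ⟨g, rfl⟩, rfl⟩
    exact Subgroup.mem_subgroupOf.1 (show g ∈ K from hK ▸ Subgroup.mem_top g)
  have hP0 : Nat.card P0 = 3265920 := by
    rw [Subgroup.card_map_of_injective Au.subtype_injective,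
      ← Nat.card_congr (MonoidHom.ofInjective D.pperm_injective).toEquiv, hcard]
  refine ⟨P0.subgroupOf J.range, ?_, ⟨((Subgroup.subgroupOfEquivOfLe hle).trans
    (Subgroup.equivMapOfInjective D.pperm.range Au.subtype Au.subtype_injective).symm).trans
      (MonoidHom.ofInjective D.pperm_injective).symm⟩⟩
  have h := (P0.subgroupOf J.range).card_mul_index
  rw [Nat.card_congr (Subgroup.subgroupOfEquivOfLe hle).toEquiv, hP0, card_facts.2.2] at h
  omega

end Cfsg.Agent.LargeExtra.MonsterFischer
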