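import Cfsg.Agent.Lib.LargeExtra.MonsterFischer.Quot

/-!
The centralizer of a 3-central element of order three of the centralizer of a pair, modulo the group
it generates, is of large Fischer type.
-/

set_option autoImplicit false
set_option maxRecDepth 10000
set_option maxHeartbeats 1000000
set_option linter.unusedSectionVars false

namespace Cfsg.Agent.LargeExtra.MonsterFischer

open Subgroup Cfsg.Agent.Leech.Classes Cfsg.Agent.MonsterOrbits Cfsg.Agent.LargeExtra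
  Cfsg.Agent.LeechAut.Basic Cfsg.Agent.LeechAut.Cross Cfsg.Agent.LeechAut.Maximal
  Cfsg.Agent.MonsterPair Cfsg.Agent.LargeExtra.MonsterCent
open Cfsg.Agent.LargeExtra.MonsterCent.Seven (crossOne exists_frame pair_map twist)
open scoped commutatorElement Pointwise

/-- An element of order three central in a Sylow subgroup goes to the element of order three. -/
theorem conj_sig {L : Type*} [Group L] [Finite L] (f : L →* crossOne) (hf : Function.Surjective f)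
    (hker : IsPGroup 2 f.ker) {y : L} (hy : orderOf y = 3) (P : Sylow 3 L)
    (hyP : y ∈ (P : Subgroup L)) (hcen : ∀ p ∈ (P : Subgroup L), y * p = p * y) :
    ∃ (c : Cfsg.Spor.Co1) (n : ℕ), (n = 1 ∨ n = 2) ∧ c * (f y : Cfsg.Spor.Co1) * c⁻¹ = sig1 ^ n := by
  haveI : Fact (Nat.Prime 3) := ⟨by norm_num⟩
  haveI := finite_Co0
  have hne : f y ≠ 1 := by
    intro h
    obtain ⟨k, hk⟩ := hker ⟨y, h⟩
    have hd := orderOf_dvd_of_pow_eq_one (show y ^ 2 ^ k = 1 from congrArg Subtype.val hk)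
    rw [hy] at hd
    exact absurd (Nat.prime_three.dvd_of_dvd_pow hd) (by norm_num)
  let P' : Sylow 3 crossOne := P.mapSurjective hf
  let Pk : Sylow 3 crossOne := Sylow.ofCard heis1 card_heis1
  obtain ⟨k, hk⟩ := MulAction.exists_smul_eq crossOne P' Pk
  have hcoe : (P' : Subgroup crossOne) = (P : Subgroup L).map f := rfl
  have hk' : MulAut.conj k • ((P : Subgroup L).map f) = heis1 := by
    rw [← hcoe]
    exact congrArg (fun S : Sylow 3 crossOne => (S : Subgroup crossOne)) hk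
  have hmem : k * f y * k⁻¹ ∈ heis1 := by
    rw [← hk']
    exact ⟨f y, Subgroup.mem_map_of_mem f hyP, rfl⟩
  have hc : ∀ w ∈ heis1, k * f y * k⁻¹ * w = w * (k * f y * k⁻¹) := by
    intro w hw
    rw [← hk'] at hw
    obtain ⟨_, ⟨p, hp, rfl⟩, rfl⟩ := hw
    show k * f y * k⁻¹ * (k * f p * k⁻¹) = k * f p * k⁻¹ * (k * f y * k⁻¹)
    calc k * f y * k⁻¹ * (k * f p * k⁻¹) = k * (f y * f p) * k⁻¹ := by group
      _ = k * (f p * f y) * k⁻¹ := by rw [← map_mul, hcen p hp, map_mul]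
      _ = _ := by group
  have hz := heis1_center hmem hc
  have hne' : k * f y * k⁻¹ ≠ 1 := fun e => hne (by
    rwa [mul_inv_eq_one, mul_eq_left] at e)
  obtain ⟨m, hm, he⟩ : ∃ m < 3, sig1 ^ m = ((k * f y * k⁻¹ : crossOne) : Cfsg.Spor.Co1) := by
    obtain ⟨i, hi⟩ := hz
    refine ⟨(i % 3).toNat, by omega, ?_⟩
    rw [← hi]
    show sig1 ^ (i % 3).toNat = sig1 ^ i
    rw [← zpow_natCast, Int.toNat_of_nonneg (Int.emod_nonneg i (by norm_num)),
      ← zpow_mod_orderOf sig1 i, orderOf_sig1]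
    rfl
  refine ⟨k, m, ?_, he.symm⟩
  have hm0 : m ≠ 0 := fun e => hne' (Subtype.ext (by rw [← he, e, pow_zero]; rfl))
  omega

variable {G : Type*} [Group G] [Finite G] {z : G}
  {Q : Subgroup (Subgroup.centralizer ({z} : Set G))} [Q.Normal]
  {e : (Subgroup.centralizer ({z} : Set G)) ⧸ Q ≃* Cfsg.Spor.Co1}
  {ψ : Cfsg.leechLattice → Q ⧸ Subgroup.center Q}

/-- An element exchanging a pair. -/
theorem exists_pair_swap (hS : Cfsg.IsExtraspecialCentralizerSetting z Q 12)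
    (hψ : Cfsg.IsLeechModTwoIso Q e ψ) {x : G} (hx : x ∈ bigQ Q) (hxc : IsConj z x) (hxz : x ≠ z) :
    ∃ t : G, t * z * t⁻¹ = x ∧ t * x * t⁻¹ = z := by
  have H := ctr_bigQ hS
  obtain ⟨g, hg⟩ := isConj_iff.1 hxc
  have hgQ : g * z * g⁻¹ ∈ bigQ Q := hg.symm ▸ hx
  have P := Pair.mk' H hgQ (by rw [hg]; exact hxz)
  have h32 : 32 ≤ Nat.card (bigQ Q) := by rw [card_bigQ, hS.2.2.2.1]; norm_num
  obtain ⟨y, hy, hye⟩ := P.z_mem' h32
  have hye' : g * y * g⁻¹ = z := hye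
  have hy' : y = g⁻¹ * z * g := by rw [← hye']; group
  have hyz : y ≠ z := by
    intro e1
    rw [e1] at hye'
    exact hxz (hg.symm.trans hye')
  obtain ⟨hyC, hyQ⟩ := mem_bigQ.1 hy
  obtain ⟨hxC, hxQ⟩ := mem_bigQ.1 hx
  have hyc : IsConj z y := isConj_iff.2 ⟨g⁻¹, by rw [inv_inv, hy']⟩
  obtain ⟨h, hh, hhe⟩ := conj_of_ty hS hψ (x := ⟨⟨y, hyC⟩, hyQ⟩) (y := ⟨⟨x, hxC⟩, hxQ⟩)
    (Or.inr (Or.inr rfl)) (ty_conj hS hψ (x := ⟨⟨y, hyC⟩, hyQ⟩) hyc hyz)
    (ty_conj hS hψ (x := ⟨⟨x, hxC⟩, hxQ⟩) hxc hxz)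
  change h * y * h⁻¹ = x at hhe
  refine ⟨g * h⁻¹, ?_, ?_⟩
  · have hz' : h⁻¹ * z * h = z := by
      rw [mul_assoc, ← mem_centralizer_singleton_iff.1 hh, inv_mul_cancel_left]
    calc g * h⁻¹ * z * (g * h⁻¹)⁻¹ = g * (h⁻¹ * z * h) * g⁻¹ := by group
      _ = x := by rw [hz', hg]
  · calc g * h⁻¹ * x * (g * h⁻¹)⁻¹ = g * (h⁻¹ * x * h) * g⁻¹ := by group
      _ = g * y * g⁻¹ := by rw [← hhe]; group
      _ = z := hye'

/-- Identifications putting the given subgroup over the element of order three, and fusion. -/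
theorem exists_key (hS : Cfsg.IsExtraspecialCentralizerSetting z Q 12)
    (hψ : Cfsg.IsLeechModTwoIso Q e ψ) {s : G} (hsQ : s ∈ bigQ Q) (hs : IsConj z s) (hsz : s ≠ z)
    {Y : Subgroup G} (hY : Y ≤ Subgroup.centralizer ({z, s} : Set G)) (hY3 : Nat.card Y = 3)
    (P : Sylow 3 ↥(Subgroup.centralizer ({z, s} : Set G)))
    (hc : Y.subgroupOf (Subgroup.centralizer ({z, s} : Set G)) ≤
      (Subgroup.center ↥(P : Subgroup ↥(Subgroup.centralizer ({z, s} : Set G)))).map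
        (P : Subgroup ↥(Subgroup.centralizer ({z, s} : Set G))).subtype) :
    ∃ (e' : (Subgroup.centralizer ({z} : Set G)) ⧸ Q ≃* Cfsg.Spor.Co1)
      (ψ' : Cfsg.leechLattice → Q ⧸ Subgroup.center Q) (b : G),
      Cfsg.IsLeechModTwoIso Q e' ψ' ∧ Lifts e' b sig 3 ∧ Y = Subgroup.zpowers b ∧
      ∃ d ∈ centB b, d * z * d⁻¹ ∈ bigQ Q ∧ d * z * d⁻¹ ≠ z := by
  haveI : Fact (Nat.Prime 3) := ⟨by norm_num⟩
  have H := ctr_bigQ hS
  let L : Subgroup G := Subgroup.centralizer ({z, s} : Set G)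
  obtain ⟨e₁, ψ₁, hψ₁, himg⟩ := exists_frame hS hψ hsQ hs hsz
  obtain ⟨f, hf, hfe⟩ := pair_map e₁ himg
  have hLz : L ≤ Subgroup.centralizer ({z} : Set G) := Subgroup.centralizer_le (by simp)
  have hker : IsPGroup 2 f.ker := by
    intro y
    have h1 : e₁ (QuotientGroup.mk ⟨_, hLz y.1.2⟩) = 1 := by
      rw [← hfe y.1 (hLz y.1.2), show f y.1 = 1 from y.2]; rfl
    rw [map_eq_one_iff e₁ e₁.injective, QuotientGroup.eq_one_iff] at h1
    obtain ⟨k, hk⟩ := hS.2.2.1.1.1 ⟨_, h1⟩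
    refine ⟨k, Subtype.ext (Subtype.ext ?_)⟩
    exact congrArg (fun u : Q => up u) hk
  obtain ⟨b₀, hb₀⟩ := exists_prime_orderOf_dvd_card' (G := Y) 3 (by rw [hY3])
  let y₀ : L := ⟨b₀, hY b₀.2⟩
  have hy₀o : orderOf y₀ = 3 := by
    rw [← Subgroup.orderOf_coe y₀]
    exact (Subgroup.orderOf_coe b₀).trans hb₀
  obtain ⟨⟨py, hpy⟩, hpc, hpe⟩ := hc (Subgroup.mem_subgroupOf.2 (show (y₀ : G) ∈ Y from b₀.2))
  change py = y₀ at hpe
  subst hpe
  have hcen : ∀ p ∈ (P : Subgroup L), y₀ * p = p * y₀ := fun p hp =>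
    (congrArg Subtype.val (Subgroup.mem_center_iff.1 hpc ⟨p, hp⟩)).symm
  obtain ⟨c, n, hn, hcn⟩ := conj_sig f hf hker hy₀o P hpy hcen
  set b : G := (b₀ : G) ^ n with hb
  have hbo : orderOf b = 3 := by
    rw [hb, Nat.Coprime.orderOf_pow (by rw [Subgroup.orderOf_coe, hb₀]; rcases hn with rfl | rfl <;> norm_num),
      Subgroup.orderOf_coe, hb₀]
  have hbY : b ∈ Y := pow_mem b₀.2 n
  have hYb : Y = Subgroup.zpowers b := by
    symm
    exact Subgroup.eq_of_le_of_card_ge (Subgroup.zpowers_le.2 hbY) (by rw [hY3, Nat.card_zpowers, hbo])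
  have hbC : b ∈ Subgroup.centralizer ({z} : Set G) := hLz (hY hbY)
  have hbimg : c * e₁ (QuotientGroup.mk ⟨b, hbC⟩) * c⁻¹ = sig1 := by
    rw [← hfe ⟨b, hY hbY⟩ hbC, show (⟨b, hY hbY⟩ : L) = y₀ ^ n from Subtype.ext rfl, map_pow,
      Subgroup.coe_pow, ← conj_pow, hcn, ← pow_mul, ← pow_mod_orderOf, orderOf_sig1]
    rcases hn with rfl | rfl <;> simp
  obtain ⟨k₀, hk₀⟩ := QuotientGroup.mk_surjective (s := Subgroup.center Cfsg.Co0) c
  refine ⟨_, _, b, twist hψ₁ k₀, ⟨by norm_num, by norm_num, hbo, hbC, ?_⟩, hYb, ?_⟩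
  · show toCo1 k₀ * e₁ (QuotientGroup.mk ⟨b, hbC⟩) * (toCo1 k₀)⁻¹ = toCo1 sig
    rw [show toCo1 k₀ = c from hk₀]
    exact hbimg
  -- an element exchanging the pair
  obtain ⟨t, htz, hts⟩ := exists_pair_swap hS hψ hsQ hs hsz
  have hLt : ∀ y ∈ L, t * y * t⁻¹ ∈ L ∧ t⁻¹ * y * t ∈ L := by
    intro y hy
    have h1 : z * y = y * z := mem_centralizer_iff.1 hy z (by simp)
    have h2 : s * y = y * s := mem_centralizer_iff.1 hy s (by simp)
    have htz' : t⁻¹ * s * t = z := by rw [← htz]; group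
    have hts' : t⁻¹ * z * t = s := by rw [← hts]; group
    constructor
    · refine mem_centralizer_iff.2 ?_
      rintro u (rfl | rfl)
      · rw [← hts]
        calc t * s * t⁻¹ * (t * y * t⁻¹) = t * (s * y) * t⁻¹ := by group
          _ = t * (y * s) * t⁻¹ := by rw [h2]
          _ = t * y * t⁻¹ * (t * s * t⁻¹) := by group
      · rw [← htz]
        calc t * z * t⁻¹ * (t * y * t⁻¹) = t * (z * y) * t⁻¹ := by group
          _ = t * (y * z) * t⁻¹ := by rw [h1]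
          _ = t * y * t⁻¹ * (t * z * t⁻¹) := by group
    · refine mem_centralizer_iff.2 ?_
      rintro u (rfl | rfl)
      · rw [← htz']
        calc t⁻¹ * s * t * (t⁻¹ * y * t) = t⁻¹ * (s * y) * t := by group
          _ = t⁻¹ * (y * s) * t := by rw [h2]
          _ = t⁻¹ * y * t * (t⁻¹ * s * t) := by group
      · rw [← hts']
        calc t⁻¹ * z * t * (t⁻¹ * y * t) = t⁻¹ * (z * y) * t := by group
          _ = t⁻¹ * (y * z) * t := by rw [h1]
          _ = t⁻¹ * y * t * (t⁻¹ * z * t) := by group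
  let φ : L →* L :=
    { toFun := fun y => ⟨t * y * t⁻¹, (hLt y y.2).1⟩
      map_one' := Subtype.ext (by simp)
      map_mul' := fun a b => Subtype.ext (by simp [mul_assoc]) }
  have hφ : Function.Surjective φ := fun y =>
    ⟨⟨t⁻¹ * y * t, (hLt y y.2).2⟩, Subtype.ext (by
      show t * (t⁻¹ * (y : G) * t) * t⁻¹ = y
      group)⟩
  let yb : L := ⟨b, hY hbY⟩
  have hybo : orderOf (φ yb) = 3 := by
    rw [← Subgroup.orderOf_coe (φ yb)]
    show orderOf (MulAut.conj t b) = 3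
    rw [MulEquiv.orderOf_eq, hbo]
  have hybP : φ yb ∈ ((P.mapSurjective hφ : Sylow 3 L) : Subgroup L) := by
    refine Subgroup.mem_map_of_mem φ ?_
    rw [show yb = y₀ ^ n from Subtype.ext rfl]
    exact pow_mem hpy n
  have hybc : ∀ p ∈ ((P.mapSurjective hφ : Sylow 3 L) : Subgroup L), φ yb * p = p * φ yb := by
    rintro _ ⟨p, hp, rfl⟩
    rw [← map_mul, ← map_mul]
    exact congrArg φ (by rw [show yb = y₀ ^ n from Subtype.ext rfl]; exact (Commute.pow_left (hcen p hp) n).eq)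
  obtain ⟨c₂, m, hm, hc₂⟩ := conj_sig f hf hker hybo _ hybP hybc
  set b' : G := t * b * t⁻¹ with hb'
  have hb'C : b' ∈ Subgroup.centralizer ({z} : Set G) := hLz (hLt b (hY hbY)).1
  obtain ⟨c₃, hc₃⟩ : ∃ c₃ : Cfsg.Spor.Co1, c₃ * e₁ (QuotientGroup.mk ⟨b', hb'C⟩) * c₃⁻¹ = sig1 := by
    have he : (f (φ yb) : Cfsg.Spor.Co1) = e₁ (QuotientGroup.mk ⟨b', hb'C⟩) := hfe (φ yb) hb'C
    rw [he] at hc₂
    rcases hm with rfl | rfl
    · exact ⟨c₂, by rw [hc₂, pow_one]⟩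
    · obtain ⟨u, hu⟩ := exists_inverter
      refine ⟨u * c₂, ?_⟩
      rw [show u * c₂ * e₁ (QuotientGroup.mk ⟨b', hb'C⟩) * (u * c₂)⁻¹ =
        u * (c₂ * e₁ (QuotientGroup.mk ⟨b', hb'C⟩) * c₂⁻¹) * u⁻¹ by group, hc₂, ← conj_pow, hu]
      have h3 : sig1 ^ 3 = 1 := orderOf_sig1 ▸ pow_orderOf_eq_one sig1
      rw [inv_pow, inv_eq_iff_mul_eq_one, ← pow_succ, h3]
  obtain ⟨⟨h₀, hh₀⟩, hh₀e⟩ := QuotientGroup.mk_surjective (s := Q) (e₁.symm (c⁻¹ * c₃))
  have hb'o : orderOf b' = 3 := by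
    show orderOf (MulAut.conj t b) = 3
    rw [MulEquiv.orderOf_eq, hbo]
  have hb3o : orderOf (h₀ * b' * h₀⁻¹) = 3 := by
    show orderOf (MulAut.conj h₀ b') = 3
    rw [MulEquiv.orderOf_eq, hb'o]
  have hb3C : h₀ * b' * h₀⁻¹ ∈ Subgroup.centralizer ({z} : Set G) :=
    mul_mem (mul_mem hh₀ hb'C) (inv_mem hh₀)
  have hsame : (QuotientGroup.mk (⟨h₀ * b' * h₀⁻¹, hb3C⟩ : Subgroup.centralizer ({z} : Set G)) :
      (Subgroup.centralizer ({z} : Set G)) ⧸ Q) = QuotientGroup.mk ⟨b, hbC⟩ := by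
    apply e₁.injective
    rw [show (⟨h₀ * b' * h₀⁻¹, hb3C⟩ : Subgroup.centralizer ({z} : Set G)) = ⟨h₀, hh₀⟩ * ⟨b', hb'C⟩ * (⟨h₀, hh₀⟩ : Subgroup.centralizer ({z} : Set G))⁻¹ from rfl,
      QuotientGroup.mk_mul, QuotientGroup.mk_mul, QuotientGroup.mk_inv, hh₀e, map_mul, map_mul, map_inv,
      e₁.apply_symm_apply]
    calc c⁻¹ * c₃ * e₁ (QuotientGroup.mk ⟨b', hb'C⟩) * (c⁻¹ * c₃)⁻¹
        = c⁻¹ * (c₃ * e₁ (QuotientGroup.mk ⟨b', hb'C⟩) * c₃⁻¹) * c := by group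
      _ = _ := by rw [hc₃, ← hbimg]; group
  obtain ⟨q, hq, hqe⟩ := exists_conj hS (b := b) (p := 3) (by norm_num) (by norm_num) hbo hbC hb3o hb3C hsame
  have hqC : q ∈ Subgroup.centralizer ({z} : Set G) := H.le_centralizer hq
  set h := q * h₀ with hh
  have hhC : h ∈ Subgroup.centralizer ({z} : Set G) := mul_mem hqC hh₀
  have hdz : h * t * z * (h * t)⁻¹ = h * s * h⁻¹ := by
    rw [← htz]; group
  refine ⟨h * t, mem_centB.2 ?_, ?_, ?_⟩
  · refine mul_inv_eq_iff_eq_mul.1 ?_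
    calc h * t * b * (h * t)⁻¹ = q * (h₀ * b' * h₀⁻¹) * q⁻¹ := by rw [hh, hb']; group
      _ = b := hqe
  · rw [hdz]
    exact H.conj_mem (mem_centralizer_singleton_iff.1 hhC) hsQ
  · rw [hdz]
    intro e0
    refine hsz ?_
    calc s = h⁻¹ * (h * s * h⁻¹) * h := by group
      _ = h⁻¹ * z * h := by rw [e0]
      _ = z := by rw [mul_assoc, ← mem_centralizer_singleton_iff.1 hhC, inv_mul_cancel_left]

/-- The quotient of the centralizer is of large Fischer type. -/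
theorem fischer_type (hS : Cfsg.IsExtraspecialCentralizerSetting z Q 12)
    (hψ : Cfsg.IsLeechModTwoIso Q e ψ) {b : G} (hL : Lifts e b sig 3)
    [hn : ((Subgroup.zpowers b).subgroupOf (centB b)).Normal]
    (hfuse : ∃ d ∈ centB b, d * z * d⁻¹ ∈ bigQ Q ∧ d * z * d⁻¹ ≠ z) :
    Cfsg.IsOfLargeFischerType (quoB b) := by
  classical
  haveI := finite_Co0
  haveI : Finite Hq := Nat.finite_of_card_ne_zero (by rw [card_Hq]; norm_num)
  obtain ⟨R, hRn, hset, ⟨E⟩, -⟩ := exists_setting hS hψ hL (w' := 6) (by norm_num) card_fixed hfuse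
    (QuotientGroup.mk' Z1) (QuotientGroup.mk'_surjective Z1) mk_eq_one faith pCore_Hq
  obtain ⟨K, instK, instF, hK, P, hP, -, -, ⟨EP⟩⟩ := exists_unitary
  let Θ : Subgroup.centralizer ({(QuotientGroup.mk ⟨z, z_mem_centB hS hψ hL⟩ : quoB b)} : Set (quoB b)) →* J.range :=
    (J2.comp E.toMonoidHom).comp (QuotientGroup.mk' R)
  have hΘ : Function.Surjective Θ :=
    (J2_surjective.comp E.surjective).comp (QuotientGroup.mk'_surjective R)
  haveI hPn : P.Normal := Subgroup.normal_of_index_eq_two hP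
  refine ⟨_, R, hRn, hset, Θ.ker, P.comap Θ, inferInstance, inferInstance, ?_, ?_, ?_,
    ⟨K, instK, instF, hK, ?_⟩, ?_⟩
  · intro x hx
    rw [MonoidHom.mem_ker]
    show J2 (E (QuotientGroup.mk' R x)) = 1
    rw [QuotientGroup.mk'_apply, (QuotientGroup.eq_one_iff x).2 hx, map_one, map_one]
  · intro x hx
    show Θ x ∈ P
    rw [MonoidHom.mem_ker.1 hx]
    exact one_mem P
  · have h1 := Θ.ker.card_mul_index
    rw [Subgroup.index_ker, MonoidHom.range_eq_top.2 hΘ, Subgroup.card_top, card_facts.2.2] at h1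
    have h2 := R.card_mul_index
    rw [Subgroup.index_eq_card, Nat.card_congr E.toEquiv, card_Hq] at h2
    refine Nat.eq_of_mul_eq_mul_right (by norm_num : 0 < 6531840) (h1.trans (h2.symm.trans ?_))
    ring
  · let θ : ↥(P.comap Θ) →* P :=
      (Θ.comp (P.comap Θ).subtype).codRestrict P fun x => x.2
    have hθ : Function.Surjective θ := fun y => by
      obtain ⟨x, hx⟩ := hΘ y.1
      exact ⟨⟨x, show Θ x ∈ P from hx ▸ y.2⟩, Subtype.ext hx⟩
    have hk : Θ.ker.subgroupOf (P.comap Θ) = θ.ker := by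
      ext x
      rw [Subgroup.mem_subgroupOf, MonoidHom.mem_ker, MonoidHom.mem_ker]
      exact ⟨fun h => Subtype.ext h, fun h => congrArg Subtype.val h⟩
    exact ⟨((QuotientGroup.quotientMulEquivOfEq hk).trans
      (QuotientGroup.quotientKerEquivOfSurjective θ hθ)).trans EP⟩
  · rw [Subgroup.index_comap_of_surjective P hΘ, hP]

end Cfsg.Agent.LargeExtra.MonsterFischer
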