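import Cfsg.Agent.Lib.LargeExtra.MonsterFischer.Elements
import Cfsg.Agent.GroupStructure3.McLStab.Graph

/-!
The residues modulo three of the fixed vectors at the six fixed coordinates: the centralizer of the
element of order three acts linearly on them, hence on the 112 lines of singular residues, and
preserves orthogonality.
-/

set_option autoImplicit false
set_option maxRecDepth 100000
set_option maxHeartbeats 4000000

namespace Cfsg.Agent.LargeExtra.MonsterFischer

open Cfsg Cfsg.Agent.Golay.Basic Cfsg.Agent.Leech.Basic Cfsg.Agent.Leech.Index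
  Cfsg.Agent.LeechAut.Gens Cfsg.Agent.LeechAut.Basic Cfsg.Agent.LeechAut.Cross
  Cfsg.Agent.LeechAut.Shapes Cfsg.Agent.LeechAut.Maximal Data
open Cfsg.Agent.Golay.M24 (tabAt)
open Cfsg.Agent.GroupStructure3.McLStab (Au adjB mem_Au)

/-- A fixed coordinate. -/
def hx (k : Fin 6) : GolayPt := pt (hexPts.getD k 0)

/-- A coordinate in an orbit of length three. -/
def cyc (j : Fin 6) (r : Fin 3) : GolayPt := pt ((cycles.getD j []).getD r 0)

/-- All the coordinates. -/
def eAll (q : Fin 6 × Fin 4) : GolayPt := (Fin.cons (hx q.1) (cyc q.1) : Fin 4 → GolayPt) q.2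

theorem eAll_bijective : Function.Bijective eAll := by
  have h : (∀ p : GolayPt, ∃ q, eAll q = p) ∧ ∀ q q', eAll q = eAll q' → q = q' := by decide +kernel
  exact ⟨fun q q' e => h.2 q q' e, h.1⟩

theorem hx_injective : Function.Injective hx := by
  have h : ∀ j k, hx j = hx k → j = k := by decide +kernel
  exact fun j k e => h j k e

theorem sig_coords : (∀ k : Fin 6, tabAt sigTab (ix (hx k)) = ix (hx k)) ∧
    ∀ j : Fin 6, tabAt sigTab (ix (cyc j 1)) = ix (cyc j 0) ∧
      tabAt sigTab (ix (cyc j 2)) = ix (cyc j 1) ∧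
      tabAt sigTab (ix (cyc j 0)) = ix (cyc j 2) := by decide +kernel

theorem tau0_hx (k : Fin 6) : tau0 (hx k) = hx k :=
  ix_injective (by rw [ix_tau0]; exact sig_coords.1 k)

theorem tau0_cyc (j : Fin 6) : tau0 (cyc j 1) = cyc j 0 ∧ tau0 (cyc j 2) = cyc j 1 :=
  ⟨ix_injective (by rw [ix_tau0]; exact (sig_coords.2 j).1),
    ix_injective (by rw [ix_tau0]; exact (sig_coords.2 j).2.1)⟩

/-- The residues of a vector at the fixed coordinates. -/
def chi (v : leechLattice) : Fin 6 → ZMod 3 := fun k => (((v : Vec) (hx k) : ℤ) : ZMod 3)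

theorem cast_dot {v w : leechLattice} (hv : Fixed v) (hw : Fixed w) :
    ((dotInt (v : Vec) (w : Vec) : ℤ) : ZMod 3) = ∑ k, chi v k * chi w k := by
  rw [fixed_iff] at hv hw
  rw [dotInt, ← (Equiv.ofBijective eAll eAll_bijective).sum_comp, Fintype.sum_prod_type, Int.cast_sum]
  refine Finset.sum_congr rfl fun j _ => ?_
  obtain ⟨h1, h2⟩ := tau0_cyc j
  have hcv : (v : Vec) (cyc j 1) = (v : Vec) (cyc j 0) ∧ (v : Vec) (cyc j 2) = (v : Vec) (cyc j 0) := by
    have a := hv (cyc j 1)
    have b := hv (cyc j 2)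
    rw [h1] at a
    rw [h2] at b
    exact ⟨a.symm, b.symm.trans a.symm⟩
  have hcw : (w : Vec) (cyc j 1) = (w : Vec) (cyc j 0) ∧ (w : Vec) (cyc j 2) = (w : Vec) (cyc j 0) := by
    have a := hw (cyc j 1)
    have b := hw (cyc j 2)
    rw [h1] at a
    rw [h2] at b
    exact ⟨a.symm, b.symm.trans a.symm⟩
  rw [Fin.sum_univ_four]
  show (((v : Vec) (hx j) * (w : Vec) (hx j) + (v : Vec) (cyc j 0) * (w : Vec) (cyc j 0) +
    (v : Vec) (cyc j 1) * (w : Vec) (cyc j 1) + (v : Vec) (cyc j 2) * (w : Vec) (cyc j 2) : ℤ) : ZMod 3) = _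
  rw [hcv.1, hcv.2, hcw.1, hcw.2]
  push_cast
  have h3 : ∀ a : ZMod 3, a + a + a = 0 := by decide
  simp only [chi]
  linear_combination h3 ((((v : Vec) (cyc j 0) : ℤ) : ZMod 3) * (((w : Vec) (cyc j 0) : ℤ) : ZMod 3))

theorem fixed_frame (k : Fin 6) : Fixed (frame (hx k)) := by
  rw [fixed_iff]
  intro p
  rw [frame_coe, Pi.single_apply, Pi.single_apply]
  refine if_congr ?_ rfl rfl
  refine ⟨fun e => tau0.injective (e.trans (tau0_hx k).symm), fun e => by rw [e, tau0_hx]⟩

theorem dot_frame (v : leechLattice) (p : GolayPt) :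
    dotInt (v : Vec) ((frame p : leechLattice) : Vec) = 8 * (v : Vec) p := by
  rw [dotInt, frame_coe, Finset.sum_eq_single p (fun q _ h => by rw [Pi.single_eq_of_ne h, mul_zero])
    (fun h => absurd (Finset.mem_univ p) h), Pi.single_eq_same, mul_comm]

/-- The residues of an image depend linearly on the residues. -/
theorem chi_smul {g : Cfsg.Co0} (hg : g ∈ C0) {v : leechLattice} (hv : Fixed v) (k : Fin 6) :
    chi (g • v) k = -∑ j, chi v j * chi (g⁻¹ • frame (hx k)) j := by
  have h1 : dotInt (v : Vec) ((g⁻¹ • frame (hx k) : leechLattice) : Vec) =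
      8 * ((g • v : leechLattice) : Vec) (hx k) := by
    rw [← dot_frame, ← dot_smul g v (g⁻¹ • frame (hx k)), smul_inv_smul]
  rw [← cast_dot hv ((fixed_frame k).smul (C0.inv_mem hg)), h1]
  push_cast
  rw [show ((8 : ZMod 3)) = -1 from rfl, neg_one_mul, neg_neg]
  rfl

theorem chi_smul_congr {g : Cfsg.Co0} (hg : g ∈ C0) {v w : leechLattice} (hv : Fixed v) (hw : Fixed w)
    (h : chi v = chi w) : chi (g • v) = chi (g • w) :=
  funext fun k => by rw [chi_smul hg hv, chi_smul hg hw, h]

theorem chi_neg (v : leechLattice) : chi (-v) = -chi v := funext fun k => by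
  simp only [chi, AddSubgroup.coe_neg, Pi.neg_apply, Int.cast_neg]

theorem chi_zero : chi 0 = 0 := funext fun k => by simp [chi]

theorem chi_form {g : Cfsg.Co0} (hg : g ∈ C0) {v w : leechLattice} (hv : Fixed v) (hw : Fixed w) :
    ∑ k, chi (g • v) k * chi (g • w) k = ∑ k, chi v k * chi w k := by
  rw [← cast_dot (hv.smul hg) (hw.smul hg), ← cast_dot hv hw, dot_smul]

/-! ### The 112 points -/

/-- The residues of a point. -/
def code (k : Fin 112) : Fin 6 → ZMod 3 := fun j => (((pointCodes.getD k []).getD j 0 : ℤ) : ZMod 3)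

/-- A vector over a point. -/
def XL (k : Fin 112) : List ℤ := (List.range 24).map fun i =>
  if hexPts.contains i then 16 * (pointCodes.getD k []).getD (hexPts.idxOf i) 0 else 0

theorem XL_mem : ∀ k, inLat (vec (XL k)) = true := by decide +kernel

theorem XL_lst : ∀ k, lst (vec (XL k)) = XL k ∧ runL sigOs (XL k) = XL k := by decide +kernel

/-- A vector over a point, in the lattice. -/
def X (k : Fin 112) : leechLattice := ⟨vec (XL k), mem_of_inLat (XL_mem k)⟩

theorem lst_X (k : Fin 112) : lst ((X k : leechLattice) : Vec) = XL k := (XL_lst k).1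

theorem fixed_X (k : Fin 112) : Fixed (X k) := fixed_of_lst (by rw [lst_X]; exact (XL_lst k).2)

/-- The residues of a coordinate list. -/
def chiL (l : List ℤ) : Fin 6 → ZMod 3 := fun j => (((l.getD (ix (hx j)) 0 : ℤ)) : ZMod 3)

theorem chiL_lst (v : leechLattice) : chiL (lst (v : Vec)) = chi v := funext fun j => by
  simp only [chiL, chi, getD_lst]

theorem chiL_XL : ∀ k, chiL (XL k) = code k := by decide +kernel

theorem chi_X (k : Fin 112) : chi (X k) = code k := by rw [← chiL_lst, lst_X, chiL_XL]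

theorem code_facts : (∀ k, code k ≠ 0 ∧ ∑ j, code k j * code k j = 0) ∧
    ∀ k l, (code k = code l ∨ code k = -code l) → k = l := by decide +kernel

theorem code_class : ∀ a b c d e f : ZMod 3, (![a, b, c, d, e, f] : Fin 6 → ZMod 3) ≠ 0 →
    a * a + b * b + c * c + d * d + e * e + f * f = 0 →
    ∃ k, (![a, b, c, d, e, f] : Fin 6 → ZMod 3) = code k ∨
      (![a, b, c, d, e, f] : Fin 6 → ZMod 3) = -code k := by decide +kernel

theorem code_adj : ∀ k l, adjB k l = true ↔ (k ≠ l ∧ ∑ j, code k j * code l j = 0) := by decide +kernel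

theorem exists_code {c : Fin 6 → ZMod 3} (h0 : c ≠ 0) (h1 : ∑ j, c j * c j = 0) :
    ∃ k, c = code k ∨ c = -code k := by
  have e : c = ![c 0, c 1, c 2, c 3, c 4, c 5] := by
    funext j; fin_cases j <;> rfl
  rw [e] at h0 ⊢
  rw [Fin.sum_univ_six] at h1
  exact code_class _ _ _ _ _ _ h0 h1

theorem exists_img (g : C0) (k : Fin 112) :
    ∃ m, chi ((g : Cfsg.Co0) • X k) = code m ∨ chi ((g : Cfsg.Co0) • X k) = -code m := by
  refine exists_code (fun h => (code_facts.1 k).1 ?_) ?_
  · have hz : Fixed (0 : leechLattice) := smul_zero' sig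
    have h2 := chi_smul_congr (C0.inv_mem g.2) ((fixed_X k).smul g.2) hz (h.trans chi_zero.symm)
    rw [inv_smul_smul, smul_zero', chi_zero, chi_X] at h2
    exact h2
  · rw [chi_form g.2 (fixed_X k) (fixed_X k), chi_X]
    exact (code_facts.1 k).2

/-- The image of a point. -/
noncomputable def img (g : C0) (k : Fin 112) : Fin 112 := (exists_img g k).choose

theorem img_spec (g : C0) (k : Fin 112) :
    chi ((g : Cfsg.Co0) • X k) = code (img g k) ∨ chi ((g : Cfsg.Co0) • X k) = -code (img g k) :=
  (exists_img g k).choose_spec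

theorem img_eq {g : C0} {k m : Fin 112}
    (h : chi ((g : Cfsg.Co0) • X k) = code m ∨ chi ((g : Cfsg.Co0) • X k) = -code m) : img g k = m := by
  refine code_facts.2 _ _ ?_
  rcases img_spec g k with h1 | h1 <;> rcases h with h2 | h2 <;> rw [h1] at h2
  · exact Or.inl h2
  · exact Or.inr h2
  · exact Or.inr (by rw [← h2, neg_neg])
  · exact Or.inl (neg_inj.1 h2)

theorem img_mul (g h : C0) (k : Fin 112) : img (g * h) k = img g (img h k) := by
  refine img_eq ?_
  have hm : ((g * h : C0) : Cfsg.Co0) • X k = (g : Cfsg.Co0) • ((h : Cfsg.Co0) • X k) := mul_smul _ _ _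
  rw [hm]
  rcases img_spec h k with h1 | h1
  · rw [chi_smul_congr g.2 ((fixed_X k).smul h.2) (fixed_X (img h k)) (h1.trans (chi_X _).symm)]
    exact img_spec g _
  · rw [chi_smul_congr g.2 ((fixed_X k).smul h.2) (fixed_X (img h k)).neg
      (h1.trans (by rw [chi_neg, chi_X])), smul_neg', chi_neg]
    rcases img_spec g (img h k) with h2 | h2 <;> rw [h2]
    · exact Or.inr rfl
    · exact Or.inl (neg_neg _)

theorem img_one (k : Fin 112) : img 1 k = k :=
  img_eq (Or.inl (by rw [OneMemClass.coe_one, one_smul, chi_X]))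

/-- The action on the points. -/
noncomputable def J : C0 →* Equiv.Perm (Fin 112) where
  toFun g := ⟨img g, img g⁻¹, fun k => by rw [← img_mul, inv_mul_cancel, img_one],
    fun k => by rw [← img_mul, mul_inv_cancel, img_one]⟩
  map_one' := Equiv.ext img_one
  map_mul' g h := Equiv.ext (img_mul g h)

theorem J_apply (g : C0) (k : Fin 112) : J g k = img g k := rfl

theorem J_mem_Au (g : C0) : J g ∈ Au := mem_Au.2 fun k l => by
  have hkey : (∑ j, code (img g k) j * code (img g l) j = 0) ↔ (∑ j, code k j * code l j = 0) := by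
    rw [← chi_X k, ← chi_X l, ← chi_form g.2 (fixed_X k) (fixed_X l)]
    rcases img_spec g k with h1 | h1 <;> rcases img_spec g l with h2 | h2 <;> rw [h1, h2] <;>
      simp [Finset.sum_neg_distrib]
  have hne : img g k ≠ img g l ↔ k ≠ l := (J g).injective.ne_iff
  rw [J_apply, J_apply, Bool.eq_iff_iff, code_adj, code_adj, hkey, hne]

/-! ### The generators -/

/-- The tables on the points. -/
def allPerms : List (List ℕ) :=
  genPerms ++ [List.range 112, List.range 112, List.range 112]

/-- The permutation table in position `i`. -/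
def pimg (i : Fin 13) (k : Fin 112) : Fin 112 :=
  ⟨(allPerms.getD i []).getD k 0 % 112, Nat.mod_lt _ (by norm_num)⟩

theorem pimg_test : ∀ i k, chiL (runL (gos i) (XL k)) = code (pimg i k) ∨
    chiL (runL (gos i) (XL k)) = -code (pimg i k) := by decide +kernel

theorem J_gC (i : Fin 13) (k : Fin 112) : J (gC i) k = pimg i k := by
  refine img_eq ?_
  show chi (gel i • X k) = _ ∨ chi (gel i • X k) = _
  rw [← chiL_lst, gel_smul, lst_X]
  exact pimg_test i k

end Cfsg.Agent.LargeExtra.MonsterFischer
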