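import Cfsg.Agent.Lib.LargeExtra.MonsterFischer.Image
import Cfsg.Agent.Lib.LargeExtra.MonsterCent.SevenSetup

/-!
The centralizer in the simple quotient of the image of the element of order three, modulo that
image: it acts on the points with kernel of order three, has trivial 2-core, and is faithful on the
fixed classes.
-/

set_option autoImplicit false
set_option maxRecDepth 100000
set_option maxHeartbeats 1000000
set_option linter.unusedSectionVars false

namespace Cfsg.Agent.LargeExtra.MonsterFischer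

open Cfsg Cfsg.Agent.Leech.Classes Cfsg.Agent.Leech.Mod2 Cfsg.Agent.LeechAut.Basic
  Cfsg.Agent.LeechAut.Cross Cfsg.Agent.LeechAut.Co1 Cfsg.Agent.LeechAut.Maximal
  Cfsg.Agent.MonsterPair

/-- The image of the element. -/
noncomputable def sig1 : Cfsg.Spor.Co1 := toCo1 sig

theorem negOne_sq : negOne ^ 2 = (1 : Cfsg.Co0) := by
  refine ext' fun v => ?_
  rw [pow_two, mul_smul, negOne_smul, negOne_smul, neg_neg, one_smul]

theorem negOne_cube : negOne ^ 3 = (negOne : Cfsg.Co0) := by
  rw [pow_succ, negOne_sq, one_mul]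

theorem orderOf_sig1 : orderOf sig1 = 3 := by
  haveI : Fact (Nat.Prime 3) := ⟨by norm_num⟩
  refine orderOf_eq_prime ?_ fun e => ?_
  · rw [sig1, ← map_pow, sig_cube, map_one]
  · rcases center_eq sig ((QuotientGroup.eq_one_iff _).1 e) with h | h
    · exact sig_ne_one h
    · have h3 := sig_cube
      rw [h, negOne_cube] at h3
      exact negOne_ne_one h3

theorem commute_of_commute {g : Cfsg.Co0}
    (h : toCo1 g * sig1 = sig1 * toCo1 g) : g * sig = sig * g := by
  rw [sig1, ← map_mul, ← map_mul] at h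
  have hm : (g * sig)⁻¹ * (sig * g) ∈ Subgroup.center Cfsg.Co0 := (QuotientGroup.eq).1 h
  rcases center_eq _ hm with e | e
  · exact inv_mul_eq_one.1 e
  · exfalso
    have e2 : g⁻¹ * sig * g = sig * negOne := by
      rw [inv_mul_eq_iff_eq_mul] at e
      calc g⁻¹ * sig * g = g⁻¹ * (sig * g) := by group
        _ = g⁻¹ * (g * sig * negOne) := by rw [e]
        _ = sig * negOne := by group
    have e3 : (g⁻¹ * sig * g) ^ 3 = 1 := by
      rw [show g⁻¹ * sig * g = g⁻¹ * sig * g⁻¹⁻¹ by rw [inv_inv], conj_pow, sig_cube]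
      group
    rw [e2, (show Commute sig negOne from negOne_comm sig).mul_pow, sig_cube, one_mul, negOne_cube] at e3
    exact negOne_ne_one e3

/-- The centralizer of the image. -/
abbrev C1 : Subgroup Cfsg.Spor.Co1 := Subgroup.centralizer ({sig1} : Set Cfsg.Spor.Co1)

/-- The map onto the centralizer of the image. -/
noncomputable def toC1 : C0 →* C1 :=
  (toCo1.comp C0.subtype).codRestrict C1 fun g => by
    rw [Subgroup.mem_centralizer_singleton_iff]
    show toCo1 (g : Cfsg.Co0) * toCo1 sig = toCo1 sig * toCo1 g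
    rw [← map_mul, ← map_mul, mem_C0.1 g.2]

theorem toC1_surjective : Function.Surjective toC1 := by
  rintro ⟨c, hc⟩
  obtain ⟨g, rfl⟩ := QuotientGroup.mk_surjective c
  exact ⟨⟨g, mem_C0.2 (commute_of_commute (Subgroup.mem_centralizer_singleton_iff.1 hc))⟩, rfl⟩

theorem J_sig : J ⟨sig, mem_C0.2 rfl⟩ = 1 := Equiv.ext fun k => by
  rw [J_apply, Equiv.Perm.one_apply]
  exact img_eq (Or.inl (by show chi (sig • X k) = code k; rw [fixed_X k, chi_X]))

theorem toC1_ker : toC1.ker ≤ J.rangeRestrict.ker := by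
  intro g hg
  rw [MonoidHom.mem_ker] at hg ⊢
  refine Subtype.ext (Equiv.ext fun k => img_eq ?_)
  have : toCo1 (g : Cfsg.Co0) = 1 := congrArg Subtype.val hg
  rcases center_eq _ ((QuotientGroup.eq_one_iff _).1 this) with e | e
  · left
    rw [e, one_smul, chi_X]
    rfl
  · right
    rw [e, negOne_smul, chi_neg, chi_X]
    rfl

/-- The action of the centralizer of the image. -/
noncomputable def J1 : C1 →* J.range :=
  toC1.liftOfSurjective toC1_surjective ⟨J.rangeRestrict, toC1_ker⟩

theorem J1_toC1 (g : C0) : J1 (toC1 g) = J.rangeRestrict g :=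
  MonoidHom.liftOfRightInverse_comp_apply toC1 _ (Function.rightInverse_surjInv toC1_surjective)
    ⟨J.rangeRestrict, toC1_ker⟩ g

theorem J1_surjective : Function.Surjective J1 := fun x => by
  obtain ⟨g, rfl⟩ := J.rangeRestrict_surjective x
  exact ⟨toC1 g, J1_toC1 g⟩

/-- The element, in the centralizer of its image. -/
noncomputable def sC : C1 := ⟨sig1, Subgroup.mem_centralizer_singleton_iff.2 rfl⟩

theorem J1_sC : J1 sC = 1 := by
  have e : sC = toC1 ⟨sig, mem_C0.2 rfl⟩ := rfl
  rw [e, J1_toC1]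
  exact Subtype.ext J_sig

/-- The group generated by it. -/
noncomputable abbrev Z1 : Subgroup C1 := Subgroup.zpowers sC

instance : Z1.Normal :=
  ⟨fun n hn g => by
    obtain ⟨i, rfl⟩ := hn
    have hc : Commute g sC := Subtype.ext (Subgroup.mem_centralizer_singleton_iff.1 g.2)
    show g * sC ^ i * g⁻¹ ∈ Z1
    rw [(hc.zpow_right i).eq, mul_inv_cancel_right]
    exact ⟨i, rfl⟩⟩

/-- The quotient. -/
abbrev Hq : Type := C1 ⧸ Z1

/-- The action of the quotient. -/
noncomputable def J2 : Hq →* J.range :=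
  QuotientGroup.lift Z1 J1 (by rw [Subgroup.zpowers_le, MonoidHom.mem_ker, J1_sC])

theorem J2_surjective : Function.Surjective J2 := fun x => by
  obtain ⟨c, rfl⟩ := J1_surjective x
  exact ⟨QuotientGroup.mk c, rfl⟩

theorem mk_eq_one (c : C1) : (QuotientGroup.mk' Z1 c = 1) ↔ (c : Cfsg.Spor.Co1) ∈ Subgroup.zpowers sig1 := by
  rw [QuotientGroup.mk'_apply, QuotientGroup.eq_one_iff]
  constructor
  · rintro ⟨i, rfl⟩
    exact ⟨i, (Subgroup.coe_zpow C1 sC i).symm⟩
  · rintro ⟨i, hi⟩
    exact ⟨i, Subtype.ext ((Subgroup.coe_zpow C1 sC i).trans hi)⟩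

theorem card_Hq : Nat.card Hq = 19595520 := by
  haveI := finite_Co0
  have hk : Nat.card toC1.ker = 2 := by
    rw [← card_center]
    refine Nat.card_congr
      { toFun := fun x => ⟨(x.1 : Cfsg.Co0), (QuotientGroup.eq_one_iff _).1 (congrArg Subtype.val x.2)⟩
        invFun := fun x => ⟨⟨x.1, mem_C0.2 ((Subgroup.mem_center_iff.1 x.2 sig).symm)⟩,
          Subtype.ext ((QuotientGroup.eq_one_iff _).2 x.2)⟩
        left_inv := fun x => rfl
        right_inv := fun x => rfl }
  have h1 := toC1.ker.card_mul_index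
  rw [Subgroup.index_ker, hk, card_facts.1, MonoidHom.range_eq_top.2 toC1_surjective, Subgroup.card_top] at h1
  have h2 := Z1.card_mul_index
  rw [Nat.card_zpowers, show orderOf sC = 3 from (Subgroup.orderOf_coe sC).symm.trans orderOf_sig1,
    Subgroup.index_eq_card] at h2
  show Nat.card (C1 ⧸ Z1) = _
  omega

theorem card_J2_ker : Nat.card J2.ker = 3 := by
  haveI := finite_Co0
  have h := J2.ker.card_mul_index
  rw [Subgroup.index_ker, MonoidHom.range_eq_top.2 J2_surjective, Subgroup.card_top,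
    card_facts.2.2, card_Hq] at h
  exact Nat.eq_of_mul_eq_mul_right (by norm_num : 0 < 6531840)
    (h.trans (by norm_num : (19595520 : ℕ) = 3 * 6531840))

/-- The quotient is faithful on the fixed classes. -/
theorem faith (c : C1) (k : Cfsg.Co0) (hk : toCo1 k = (c : Cfsg.Spor.Co1))
    (h : ∀ v : Cfsg.leechLattice, cls (sig • v) = cls v → cls (k • v) = cls v) :
    QuotientGroup.mk' Z1 c = 1 := by
  rw [mk_eq_one, ← hk]
  refine stab_small ?_ ?_ fun i => h _ (by rw [fixed_pairL i])
  · rw [← clsStab_frame]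
    exact h _ (by rw [fixed_frame_none])
  · exact commute_of_commute (by rw [hk]; exact Subgroup.mem_centralizer_singleton_iff.1 c.2)

theorem exists_unitary : ∃ (K : Type) (_ : Field K) (_ : Fintype K), Fintype.card K = 9 ∧
    ∃ P : Subgroup J.range, P.index = 2 ∧ IsSimpleGroup P ∧ Nat.card P = 3265920 ∧
      Nonempty (P ≃* Cfsg.PSU 4 K 3) := by
  classical
  haveI : Fact (Nat.Prime 3) := ⟨by norm_num⟩
  let K := GaloisField 3 2
  haveI : Fintype K := Fintype.ofFinite K
  have hK : Fintype.card K = 9 := by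
    rw [← Nat.card_eq_fintype_card]
    exact GaloisField.card 3 2 (by norm_num)
  obtain ⟨P, hP, ⟨E⟩⟩ := exists_P hK
  exact ⟨K, inferInstance, inferInstance, hK, P, hP, E.isSimpleGroup_congr.2 (card_PSU hK).1,
    (Nat.card_congr E.toEquiv).trans (card_PSU hK).2, ⟨E⟩⟩

theorem pCore_Hq : Cfsg.pCore 2 Hq = ⊥ := by
  haveI : Fact (Nat.Prime 2) := ⟨Nat.prime_two⟩
  haveI := finite_Co0
  obtain ⟨K, _, _, -, P, hP, hsimp, hPc, -⟩ := exists_unitary
  set A := Cfsg.pCore 2 Hq
  haveI : A.Normal := Cfsg.Agent.Cores.pCore_normal 2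
  have hA2 : IsPGroup 2 A := Cfsg.Agent.Cores.pCore_isPGroup 2
  set B := A.map J2
  haveI hBn : B.Normal := Subgroup.Normal.map inferInstance J2 J2_surjective
  have hBP : B ⊓ P = ⊥ := by
    rcases hsimp.eq_bot_or_eq_top_of_normal (B.subgroupOf P) inferInstance with h | h
    · exact disjoint_iff.1 (Subgroup.subgroupOf_eq_bot.1 h)
    · exfalso
      obtain ⟨n, hn⟩ := IsPGroup.iff_card.1 ((hA2.map J2).to_le (Subgroup.subgroupOf_eq_top.1 h))
      rw [hPc] at hn
      have hd : 3 ∣ 2 ^ n := hn ▸ (by norm_num)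
      exact absurd (Nat.prime_three.dvd_of_dvd_pow hd) (by norm_num)
  have hB2 : Nat.card B ≤ 2 := by
    have hinj : Function.Injective (fun b : B => (QuotientGroup.mk b.1 : J.range ⧸ P)) := by
      intro a b e
      have h1 : a.1⁻¹ * b.1 ∈ B ⊓ P := ⟨B.mul_mem (B.inv_mem a.2) b.2, QuotientGroup.eq.1 e⟩
      rw [hBP, Subgroup.mem_bot, inv_mul_eq_one] at h1
      exact Subtype.ext h1
    have h := Nat.card_le_card_of_injective _ hinj
    rwa [← Subgroup.index_eq_card, hP] at h
  have hB1 : B = ⊥ := by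
    refine (Subgroup.eq_bot_iff_forall _).2 fun b hb => ?_
    by_contra hb1
    refine hb1 (Subtype.ext (center_range (c := b.1) fun g hg => ?_))
    let g' : J.range := ⟨g, hg⟩
    have hmem : g' * b * g'⁻¹ ∈ B := hBn.conj_mem b hb g'
    have he : g' * b * g'⁻¹ = b := by
      by_contra hne
      have h1 : g' * b * g'⁻¹ ≠ 1 := fun e => hb1 (by
        rwa [mul_inv_eq_one, mul_eq_left] at e)
      haveI : Nontrivial B := ⟨⟨⟨b, hb⟩, 1, fun e => hb1 (congrArg Subtype.val e)⟩⟩
      have h2 : Nat.card B = 2 := le_antisymm hB2 Finite.one_lt_card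
      obtain ⟨y, -, hy⟩ := (Nat.card_eq_two_iff' (1 : B)).1 h2
      refine hne (congrArg Subtype.val ((hy ⟨_, hmem⟩ fun e => h1 (congrArg Subtype.val e)).trans
        (hy ⟨b, hb⟩ fun e => hb1 (congrArg Subtype.val e)).symm))
    rw [mul_inv_eq_iff_eq_mul] at he
    exact congrArg Subtype.val he
  have hle : A ≤ J2.ker := (Subgroup.map_eq_bot_iff _).1 hB1
  have h3 := Subgroup.card_dvd_of_le hle
  rw [card_J2_ker] at h3
  obtain ⟨n, hn⟩ := IsPGroup.iff_card.1 hA2
  rw [hn] at h3
  have : n = 0 := by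
    by_contra h0
    have : 2 ∣ 3 := (dvd_pow_self 2 h0).trans h3
    norm_num at this
  rw [this, pow_zero] at hn
  exact Subgroup.eq_bot_of_card_eq A hn

/-! ### The Sylow 3-subgroup of the stabiliser of the cross -/

theorem three_crossOne : (Nat.card MonsterCent.Seven.crossOne).factorization 3 = 3 := by
  have h : Nat.card MonsterCent.Seven.crossOne = 3 ^ 3 * (2048 * 9067520) := by
    have := MonsterCent.Seven.card_crossOne; omega
  rw [h, Nat.factorization_mul (by norm_num) (by norm_num), Finsupp.add_apply,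
    Nat.prime_three.factorization_pow, Finsupp.single_eq_same,
    Nat.factorization_eq_zero_of_not_dvd (by norm_num)]

/-- The map of the permutations into the simple quotient. -/
noncomputable def pm : Cfsg.M24 →* Cfsg.Spor.Co1 := toCo1.comp permHom

theorem pm_injective : Function.Injective pm := by
  rw [injective_iff_map_eq_one]
  intro τ h
  exact eq_one_of_mem_signSub (center_le_signSub ((QuotientGroup.eq_one_iff _).1 h))

theorem pm_mem (τ : Cfsg.M24) : pm τ ∈ MonsterCent.Seven.crossOne :=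
  Subgroup.mem_map_of_mem toCo1 (permHom_mem τ)

theorem pm_sgP : pm sgP = sig1 := rfl

/-- The group of order 27 in the stabiliser of the cross. -/
noncomputable def heis1 : Subgroup MonsterCent.Seven.crossOne :=
  heis.map (pm.codRestrict _ pm_mem)

theorem card_heis1 : Nat.card heis1 = 3 ^ (Nat.card MonsterCent.Seven.crossOne).factorization 3 := by
  rw [three_crossOne, heis1, Subgroup.card_map_of_injective
    (fun a b e => pm_injective (congrArg Subtype.val e)), card_heis]
  rfl

theorem heis1_center {x : MonsterCent.Seven.crossOne} (hx : x ∈ heis1)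
    (h : ∀ y ∈ heis1, x * y = y * x) : (x : Cfsg.Spor.Co1) ∈ Subgroup.zpowers sig1 := by
  obtain ⟨a, ha, rfl⟩ := hx
  have hc : a ∈ Subgroup.zpowers sgP := heis_center ha fun y hy => pm_injective (by
    rw [map_mul, map_mul]
    exact congrArg Subtype.val (h _ ⟨y, hy, rfl⟩))
  obtain ⟨i, rfl⟩ := hc
  exact ⟨i, (map_zpow pm sgP i).symm⟩

theorem exists_inverter : ∃ u : Cfsg.Spor.Co1, u * sig1 * u⁻¹ = sig1⁻¹ := ⟨pm invP, by
  rw [← pm_sgP, ← map_inv, ← map_mul, ← map_mul, invP_conj, map_inv]⟩

end Cfsg.Agent.LargeExtra.MonsterFischer
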