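import Cfsg.Agent.Lib.LargeExtra.MonsterFischer.Points
import Cfsg.Agent.Lib.LargeExtra.MonsterFischer.Classes

/-!
The monomial part of the centralizer of the element of order three: at most 64 sign changes and at
most 1080 permutations; an element of it fixing five fixed pair classes is a power of the element
up to sign.
-/

set_option autoImplicit false
set_option maxRecDepth 100000
set_option maxHeartbeats 4000000

namespace Cfsg.Agent.LargeExtra.MonsterFischer

open Cfsg Cfsg.Agent.Golay.Basic Cfsg.Agent.Golay.Design Cfsg.Agent.Golay.M24 Cfsg.Agent.Leech.Basic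
  Cfsg.Agent.Leech.Classes Cfsg.Agent.Leech.Mod2 Cfsg.Agent.Leech.Index Cfsg.Agent.LeechAut.Gens
  Cfsg.Agent.LeechAut.Basic Cfsg.Agent.LeechAut.Cross Cfsg.Agent.LeechAut.Co1
  Cfsg.Agent.LeechAut.Maximal Data
open scoped Pointwise

/-! ### The parts -/

theorem commute_parts {g : Cfsg.Co0} (hg : g ∈ crossStab) (h : g * sig = sig * g) :
    ∃ (τ : Cfsg.M24) (c : Leech.Basic.codeSets), g = mono (τ, c) ∧ τ * sgP = sgP * τ ∧
      ∀ p, (tau0 p ∈ c.1 ↔ p ∈ c.1) := by
  obtain ⟨⟨τ, c⟩, rfl⟩ := exists_mono g hg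
  refine ⟨τ, c, rfl, ?_⟩
  rw [sig_eq_mono] at h
  obtain ⟨h1, e1⟩ := MonsterCent.Seven.mono_mul τ sgP c ⟨∅, empty_mem⟩
  obtain ⟨h2, e2⟩ := MonsterCent.Seven.mono_mul sgP τ ⟨∅, empty_mem⟩ c
  rw [e1, e2] at h
  have := mono_injective h
  simp only [Prod.mk.injEq, Subtype.mk.injEq] at this
  obtain ⟨ha, hb⟩ := this
  refine ⟨ha, fun p => ?_⟩
  have hd : ∀ t : Finset GolayPt, symmDiff t ∅ = t ∧ symmDiff ∅ t = t := fun t =>
    ⟨by ext; simp [Finset.mem_symmDiff], by ext; simp [Finset.mem_symmDiff]⟩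
  have hc : c.1 = tau0⁻¹ • c.1 := by
    simpa [Finset.smul_finset_empty, hd, sgP] using hb
  conv_rhs => rw [hc]
  rw [Finset.mem_inv_smul_finset_iff, Equiv.Perm.smul_def]

/-- The code words invariant under the element. -/
def invList : List ℕ := codeList.filter fun m =>
  (List.range 24).all fun i => m.testBit (tabAt sigTab i) == m.testBit i

theorem invList_facts : invList.length = 64 ∧ ∀ m ∈ invList,
    (∀ k : Fin 6, m.testBit (ix (hx k)) = m.testBit 23) → m = 0 ∨ m = 16777215 := by decide +kernel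

theorem mask_mem_invList {c : Finset GolayPt} (hc : c ∈ Leech.Basic.codeSets)
    (h : ∀ p, (tau0 p ∈ c ↔ p ∈ c)) : mask c ∈ invList := by
  rw [invList, List.mem_filter]
  refine ⟨mem_codeList (mem_supports_iff.1 hc), List.all_eq_true.2 fun i hi => ?_⟩
  have hi' := List.mem_range.1 hi
  have h1 : tabAt sigTab i = ix (tau0 (pt i)) := by rw [ix_tau0, ix_pt hi']
  rw [beq_iff_eq, h1, Bool.eq_iff_iff, ← mem_maskSet, maskSet_mask, h,
    ← ix_pt hi', ← mem_maskSet, maskSet_mask, ix_pt hi']

/-! ### The permutations -/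

/-- The centralizer in `M24`. -/
abbrev Cperm : Subgroup Cfsg.M24 := Subgroup.centralizer ({sgP} : Set Cfsg.M24)

theorem comm_tau0 {τ : Cfsg.M24} (h : τ * sgP = sgP * τ) (p : GolayPt) :
    (τ : Equiv.Perm GolayPt) (tau0 p) = tau0 ((τ : Equiv.Perm GolayPt) p) := by
  have h' : Commute τ sgP⁻¹ := (show Commute τ sgP from h).inv_right
  have e := congrArg (fun u : Cfsg.M24 => (u : Equiv.Perm GolayPt) p) h'.eq
  simpa [sgP] using e

theorem fixed_points : ∀ i : Fin 24, tabAt sigTab i = i → ∃ k : Fin 6, (i : ℕ) = ix (hx k) := by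
  decide +kernel

theorem cyc_moved : ∀ (j : Fin 6) (r : Fin 3) (k : Fin 6), cyc j r ≠ hx k := by decide +kernel

theorem exists_hx {p : GolayPt} (h : tau0 p = p) : ∃ k, p = hx k := by
  obtain ⟨k, hk⟩ := fixed_points ⟨ix p, ix_lt p⟩ (by
    show tabAt sigTab (ix p) = ix p
    rw [← ix_tau0, h])
  exact ⟨k, ix_injective hk⟩

theorem exists_image_hx {τ : Cfsg.M24} (h : τ * sgP = sgP * τ) (k : Fin 6) :
    ∃ m, (τ : Equiv.Perm GolayPt) (hx k) = hx m :=
  exists_hx (by rw [← comm_tau0 h, tau0_hx])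

/-- The octad through five fixed coordinates, as a mask. -/
def octM (k : Fin 6) : ℕ :=
  mask ((Finset.univ.erase k).image hx ∪ Finset.univ.image (cyc ⟨(Data.kappa).getD k 0 % 6, Nat.mod_lt _ (by norm_num)⟩))

/-- The orbit completing five fixed coordinates. -/
def kap6 (k : Fin 6) : Fin 6 := ⟨(Data.kappa).getD k 0 % 6, Nat.mod_lt _ (by norm_num)⟩

theorem octM_facts : ∀ k : Fin 6, octM k ∈ octList ∧
    (∀ p : GolayPt, (octM k).testBit (ix p) = true → (∃ j, j ≠ k ∧ p = hx j) ∨ ∃ r, p = cyc (kap6 k) r) ∧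
    (∀ j, j ≠ k → (octM k).testBit (ix (hx j)) = true) ∧
    (octM k).testBit (ix (cyc (kap6 k) 0)) = true := by decide +kernel

theorem kap6_surjective : ∀ j : Fin 6, ∃ k, kap6 k = j := by decide +kernel

/-- The image of a point of the completing orbit. -/
theorem image_cyc {τ : Cfsg.M24} (h : τ * sgP = sgP * τ) {k : Fin 6}
    (hk : (τ : Equiv.Perm GolayPt) (hx k) = hx k ∨
      ∀ j, j ≠ k → ∃ j', j' ≠ k ∧ (τ : Equiv.Perm GolayPt) (hx j) = hx j') :
    ∃ r, (τ : Equiv.Perm GolayPt) (cyc (kap6 k) 0) = cyc (kap6 k) r := by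
  have hperm : ∀ j, j ≠ k → ∃ j', j' ≠ k ∧ (τ : Equiv.Perm GolayPt) (hx j) = hx j' := by
    rcases hk with hk | hk
    · intro j hj
      obtain ⟨j', hj'⟩ := exists_image_hx h j
      refine ⟨j', fun e => hj (hx_injective ?_), hj'⟩
      exact (τ : Equiv.Perm GolayPt).injective (by rw [hj', hk, e])
    · exact hk
  obtain ⟨hO, hmem, hfive, hc0⟩ := octM_facts k
  set O := maskSet (octM k)
  set S := (Finset.univ.erase k).image hx
  have hSO : S ⊆ O := by
    intro p hp
    obtain ⟨j, hj, rfl⟩ := Finset.mem_image.1 hp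
    exact mem_maskSet.2 (hfive j (Finset.ne_of_mem_erase hj))
  have hSτ : (τ : Equiv.Perm GolayPt) • S ⊆ O := by
    intro p hp
    obtain ⟨q, hq, rfl⟩ := Finset.mem_smul_finset.1 hp
    obtain ⟨j, hj, rfl⟩ := Finset.mem_image.1 hq
    obtain ⟨j', hj', e⟩ := hperm j (Finset.ne_of_mem_erase hj)
    rw [Equiv.Perm.smul_def, e]
    exact mem_maskSet.2 (hfive j' hj')
  have hcard : 5 ≤ ((τ : Equiv.Perm GolayPt) • S).card := by
    rw [Finset.card_smul_finset, Finset.card_image_of_injective _ hx_injective,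
      Finset.card_erase_of_mem (Finset.mem_univ k)]
    rfl
  have he := octads_eq_of_subset hcard (smul_mem_octads τ.2 (maskSet_mem_octads hO))
    (maskSet_mem_octads hO) (Finset.smul_finset_subset_smul_finset hSO) hSτ
  have hin : (τ : Equiv.Perm GolayPt) (cyc (kap6 k) 0) ∈ O := by
    show _ ∈ maskSet (octM k)
    rw [← he, mem_smul_iff]
    exact mem_maskSet.2 hc0
  rcases hmem _ (mem_maskSet.1 hin) with ⟨j, -, e⟩ | ⟨r, e⟩
  · exfalso
    have h1 : tau0 ((τ : Equiv.Perm GolayPt) (cyc (kap6 k) 0)) =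
        (τ : Equiv.Perm GolayPt) (cyc (kap6 k) 0) := by rw [e, tau0_hx]
    rw [← comm_tau0 h] at h1
    obtain ⟨m, hm⟩ := exists_hx ((τ : Equiv.Perm GolayPt).injective h1)
    exact cyc_moved _ _ _ hm
  · exact ⟨r, e⟩

theorem sgP_cyc (j : Fin 6) (r : Fin 3) :
    ((sgP ^ (r : ℕ) : Cfsg.M24) : Equiv.Perm GolayPt) (cyc j 0) = cyc j r := by
  have h1 : ((sgP : Cfsg.M24) : Equiv.Perm GolayPt) (cyc j 0) = cyc j 1 := by
    show tau0⁻¹ (cyc j 0) = cyc j 1
    rw [Equiv.Perm.inv_eq_iff_eq, (tau0_cyc j).1]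
  have h2 : ((sgP : Cfsg.M24) : Equiv.Perm GolayPt) (cyc j 1) = cyc j 2 := by
    show tau0⁻¹ (cyc j 1) = cyc j 2
    rw [Equiv.Perm.inv_eq_iff_eq, (tau0_cyc j).2]
  fin_cases r <;> simp [pow_succ, h1, h2]

theorem fix_cycle {τ : Cfsg.M24} (h : τ * sgP = sgP * τ) {j : Fin 6}
    (h0 : (τ : Equiv.Perm GolayPt) (cyc j 0) = cyc j 0) (r : Fin 3) :
    (τ : Equiv.Perm GolayPt) (cyc j r) = cyc j r := by
  have hc : Commute τ (sgP ^ (r : ℕ)) := (show Commute τ sgP from h).pow_right _
  have e := congrArg (fun u : Cfsg.M24 => (u : Equiv.Perm GolayPt) (cyc j 0)) hc.eq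
  simp only [Subgroup.coe_mul, Equiv.Perm.mul_apply, h0, sgP_cyc] at e
  exact e

/-- The fixed coordinates and one orbit. -/
def oneM : ℕ := mask (Finset.univ.image hx ∪ Finset.univ.image (cyc 0))

/-- Four fixed coordinates and their four orbits. -/
def fourM : ℕ :=
  mask (((Finset.univ.erase 0).erase 1).image hx ∪
    ((Finset.univ.erase 0).erase 1).biUnion fun k => Finset.univ.image (cyc (kap6 k)))

theorem forced_facts : forced oneM 16777215 = true ∧ forced fourM 16777215 = true := by decide +kernel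

theorem mask_points {m : Finset GolayPt} {p : GolayPt} (h : p ∈ maskSet (mask m)) : p ∈ m := by
  rwa [maskSet_mask] at h

theorem eq_one_of_forced {τ : Cfsg.M24} {m : ℕ} (hm : forced m 16777215 = true)
    (h : ∀ p ∈ maskSet m, (τ : Equiv.Perm GolayPt) p = p) : τ = 1 := by
  refine Subtype.ext (Equiv.ext fun p => ?_)
  refine fix_of_forced τ.2 hm h p (mem_maskSet.2 ?_)
  have : ∀ i : Fin 24, (16777215 : ℕ).testBit i = true := by decide
  exact this ⟨ix p, ix_lt p⟩

/-- An element fixing the six coordinates is a power of the element. -/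
theorem mem_zpowers_of_fix {τ : Cfsg.M24} (h : τ * sgP = sgP * τ)
    (hfix : ∀ k, (τ : Equiv.Perm GolayPt) (hx k) = hx k) : τ ∈ Subgroup.zpowers sgP := by
  obtain ⟨k, hk⟩ := kap6_surjective 0
  obtain ⟨r, hr⟩ := image_cyc h (k := k) (Or.inl (hfix k))
  rw [hk] at hr
  set s := sgP ^ (r : ℕ) with hs
  have hsc : Commute s sgP := (Commute.refl sgP).pow_left _
  have hc : (s⁻¹ * τ) * sgP = sgP * (s⁻¹ * τ) :=
    (hsc.inv_left.mul_left (show Commute τ sgP from h)).eq
  have hsfix : ∀ m, (s : Equiv.Perm GolayPt) (hx m) = hx m := by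
    intro m
    rw [hs]
    induction (r : ℕ) with
    | zero => rfl
    | succ n ih =>
      rw [pow_succ, Subgroup.coe_mul, Equiv.Perm.mul_apply]
      have e : ((sgP : Cfsg.M24) : Equiv.Perm GolayPt) (hx m) = hx m := by
        show tau0⁻¹ (hx m) = hx m
        rw [Equiv.Perm.inv_eq_iff_eq, tau0_hx]
      rw [e, ih]
  have h0 : ((s⁻¹ * τ : Cfsg.M24) : Equiv.Perm GolayPt) (cyc 0 0) = cyc 0 0 := by
    rw [Subgroup.coe_mul, Equiv.Perm.mul_apply, hr, Subgroup.coe_inv, Equiv.Perm.inv_eq_iff_eq, sgP_cyc]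
  have h1 : s⁻¹ * τ = 1 := by
    refine eq_one_of_forced forced_facts.1 fun p hp => ?_
    rcases Finset.mem_union.1 (mask_points hp) with hp | hp
    · obtain ⟨m, -, rfl⟩ := Finset.mem_image.1 hp
      rw [Subgroup.coe_mul, Equiv.Perm.mul_apply, hfix, Subgroup.coe_inv, Equiv.Perm.inv_eq_iff_eq, hsfix]
    · obtain ⟨t, -, rfl⟩ := Finset.mem_image.1 hp
      exact fix_cycle hc h0 t
  rw [inv_mul_eq_one] at h1
  rw [← h1, hs]
  exact pow_mem (Subgroup.mem_zpowers _) _

/-- The restriction to the six coordinates. -/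
noncomputable def res : Cperm →* Equiv.Perm (Fin 6) :=
  MonoidHom.mk' (fun τ => Equiv.ofBijective
    (fun k => (exists_image_hx (Subgroup.mem_centralizer_singleton_iff.1 τ.2) k).choose)
    (Finite.injective_iff_bijective.1 fun a b e => hx_injective ((τ.1 : Equiv.Perm GolayPt).injective (by
      rw [(exists_image_hx (Subgroup.mem_centralizer_singleton_iff.1 τ.2) a).choose_spec,
        (exists_image_hx (Subgroup.mem_centralizer_singleton_iff.1 τ.2) b).choose_spec]
      exact congrArg hx e)))) fun g g' => by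
    refine Equiv.ext fun k => hx_injective ?_
    show hx (exists_image_hx (Subgroup.mem_centralizer_singleton_iff.1 (g * g').2) k).choose =
      hx (exists_image_hx (Subgroup.mem_centralizer_singleton_iff.1 g.2) _).choose
    rw [← (exists_image_hx (Subgroup.mem_centralizer_singleton_iff.1 g.2) _).choose_spec]
    show hx _ = (g.1 : Equiv.Perm GolayPt)
      (hx (exists_image_hx (Subgroup.mem_centralizer_singleton_iff.1 g'.2) k).choose)
    rw [← (exists_image_hx (Subgroup.mem_centralizer_singleton_iff.1 g'.2) k).choose_spec,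
      ← (exists_image_hx (Subgroup.mem_centralizer_singleton_iff.1 (g * g').2) k).choose_spec]
    rfl

theorem res_spec (τ : Cperm) (k : Fin 6) :
    (τ.1 : Equiv.Perm GolayPt) (hx k) = hx (res τ k) :=
  (exists_image_hx (Subgroup.mem_centralizer_singleton_iff.1 τ.2) k).choose_spec

theorem res_ne_swap (τ : Cperm) : res τ ≠ Equiv.swap 0 1 := by
  intro he
  have hc := Subgroup.mem_centralizer_singleton_iff.1 τ.2
  have hfix : ∀ k, k ≠ 0 → k ≠ 1 → (τ.1 : Equiv.Perm GolayPt) (hx k) = hx k := fun k h0 h1 => by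
    rw [res_spec, he, Equiv.swap_apply_of_ne_of_ne h0 h1]
  have hcube : τ.1 ^ 3 = 1 := by
    refine eq_one_of_forced forced_facts.2 fun p hp => ?_
    rcases Finset.mem_union.1 (mask_points hp) with hp | hp
    · obtain ⟨k, hk, rfl⟩ := Finset.mem_image.1 hp
      simp only [Finset.mem_erase, Finset.mem_univ, and_true] at hk
      simp only [pow_succ, pow_zero, one_mul, Subgroup.coe_mul, Equiv.Perm.mul_apply, hfix k hk.2 hk.1]
    · obtain ⟨k, hk, hp⟩ := Finset.mem_biUnion.1 hp
      simp only [Finset.mem_erase, Finset.mem_univ, and_true] at hk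
      obtain ⟨t, -, rfl⟩ := Finset.mem_image.1 hp
      refine fix_cycle ((show Commute τ.1 sgP from hc).pow_left 3).eq ?_ t
      obtain ⟨r, hr⟩ := image_cyc hc (k := k) (Or.inl (hfix k hk.2 hk.1))
      replace hr := hr.trans (sgP_cyc (kap6 k) r).symm
      set s := sgP ^ (r : ℕ) with hs
      have hst : ∀ p, (τ.1 : Equiv.Perm GolayPt) ((s : Equiv.Perm GolayPt) p) =
          (s : Equiv.Perm GolayPt) ((τ.1 : Equiv.Perm GolayPt) p) := fun p =>
        congrArg (fun u : Cfsg.M24 => (u : Equiv.Perm GolayPt) p) ((show Commute τ.1 sgP from hc).pow_right _).eq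
      have h3 : s * (s * s) = 1 := by
        have h : sgP ^ 3 = 1 := by
          refine Subtype.ext ?_
          rw [SubmonoidClass.coe_pow]
          show tau0⁻¹ ^ 3 = 1
          rw [inv_pow, tau0_cube, inv_one]
        rw [hs, ← pow_add, ← pow_add, show (r : ℕ) + ((r : ℕ) + r) = 3 * r by omega, pow_mul, h, one_pow]
      simp only [pow_succ, pow_zero, one_mul, Subgroup.coe_mul, Equiv.Perm.mul_apply, hr, hst]
      have e := congrArg (fun u : Cfsg.M24 => (u : Equiv.Perm GolayPt) (cyc (kap6 k) 0)) h3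
      simpa [Equiv.Perm.mul_apply] using e
  have h3 : res τ ^ 3 = 1 := by
    rw [← map_pow, show τ ^ 3 = 1 from Subtype.ext hcube, map_one]
  rw [he] at h3
  revert h3
  decide

theorem card_Cperm : Nat.card Cperm ≤ 1080 := by
  have h1 := Subgroup.card_mul_index res.ker
  rw [Subgroup.index_ker] at h1
  have hker : Nat.card res.ker ≤ 3 := by
    have hle : res.ker.map Cperm.subtype ≤ Subgroup.zpowers sgP := by
      rintro _ ⟨τ, hτ, rfl⟩
      refine mem_zpowers_of_fix (Subgroup.mem_centralizer_singleton_iff.1 τ.2) fun k => ?_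
      rw [Subgroup.coe_subtype, res_spec, MonoidHom.mem_ker.1 hτ, Equiv.Perm.one_apply]
    have h2 := Subgroup.card_le_of_le hle
    rw [Subgroup.card_map_of_injective Cperm.subtype_injective, Nat.card_zpowers] at h2
    refine h2.trans (Nat.le_of_dvd (by norm_num) (orderOf_dvd_of_pow_eq_one ?_))
    refine Subtype.ext ?_
    rw [SubmonoidClass.coe_pow]
    show tau0⁻¹ ^ 3 = 1
    rw [inv_pow, tau0_cube, inv_one]
  have hr : Nat.card res.range ≤ 360 := by
    have hne : res.range.index ≠ 1 := by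
      rw [Ne, Subgroup.index_eq_one]
      intro h
      obtain ⟨τ, hτ⟩ : Equiv.swap 0 1 ∈ res.range := h ▸ Subgroup.mem_top _
      exact res_ne_swap τ hτ
    have h3 := res.range.card_mul_index
    rw [Nat.card_perm, Nat.card_fin, show Nat.factorial 6 = 720 from rfl] at h3
    have h0 : res.range.index ≠ 0 := Subgroup.index_ne_zero_of_finite
    have : 2 ≤ res.range.index := by omega
    have := Nat.mul_le_mul_left (Nat.card res.range) this
    omega
  rw [← h1]
  exact (Nat.mul_le_mul hker hr).trans (by norm_num)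

/-- The part of the centralizer in the stabiliser of the cross. -/
abbrev T0 : Subgroup Cfsg.Co0 := C0 ⊓ crossStab

theorem card_T0 : Nat.card T0 ≤ 64 * 1080 := by
  classical
  have key : ∀ g : T0, ∃ (τ : Cperm) (c : Leech.Basic.codeSets),
      (g : Cfsg.Co0) = mono (τ.1, c) ∧ mask c.1 ∈ invList := by
    intro g
    obtain ⟨τ, c, hg, hτ, hc⟩ := commute_parts g.2.2 (mem_C0.1 g.2.1)
    exact ⟨⟨τ, Subgroup.mem_centralizer_singleton_iff.2 hτ⟩, c, hg, mask_mem_invList c.2 hc⟩
  choose τ c hg hc using key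
  let f : T0 → {m // m ∈ invList.toFinset} × Cperm := fun g =>
    (⟨mask (c g).1, List.mem_toFinset.2 (hc g)⟩, τ g)
  have hf : Function.Injective f := by
    intro a b e
    simp only [f, Prod.mk.injEq, Subtype.mk.injEq] at e
    have ec : c a = c b := Subtype.ext (mask_injective e.1)
    exact Subtype.ext (by rw [hg a, hg b, e.2, ec])
  have h1 := Nat.card_le_card_of_injective f hf
  rw [Nat.card_prod, show Nat.card {m // m ∈ invList.toFinset} = invList.toFinset.card by
    rw [Nat.card_eq_fintype_card, Fintype.card_coe]] at h1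
  refine h1.trans (Nat.mul_le_mul ?_ card_Cperm)
  exact (List.toFinset_card_le _).trans invList_facts.1.le

/-! ### The pairs of fixed coordinates -/

/-- A fixed pair vector. -/
def pairFun (k : Fin 5) : Vec := pairVec (hx k.castSucc) 1

theorem pair_facts : hx (Fin.last 5) = none ∧ ∀ k : Fin 5, hx k.castSucc ≠ none ∧
    inLat (pairFun k) = true ∧ sqNorm (pairFun k) = 32 ∧ ∀ p, sFun (pairFun k) p = pairFun k p := by
  decide +kernel

/-- A fixed pair vector, in the lattice. -/
def pairL (k : Fin 5) : leechLattice := ⟨pairFun k, mem_of_inLat (pair_facts.2 k).2.1⟩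

theorem fixed_pairL (k : Fin 5) : Fixed (pairL k) :=
  Subtype.ext (by rw [sig_coe]; exact funext (pair_facts.2 k).2.2.2)

theorem pairFun_apply (k : Fin 5) (p : GolayPt) :
    pairFun k p = (if p = hx k.castSucc then 4 else 0) + if p = none then 4 else 0 := by
  simp [pairFun, pairVec]

/-- An element of the monomial part fixing the five pair classes. -/
theorem stab_small {g : Cfsg.Co0} (hg : g ∈ crossStab) (hcomm : g * sig = sig * g)
    (hp : ∀ k, cls (g • pairL k) = cls (pairL k)) : MonsterPair.toCo1 g ∈ Subgroup.zpowers (MonsterPair.toCo1 sig) := by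
  obtain ⟨τ, c, rfl, hτ, hc⟩ := commute_parts hg hcomm
  have hvec : ∀ k p, ((mono (τ, c) • pairL k : leechLattice) : Vec) ((τ : Equiv.Perm GolayPt) p) =
      if (τ : Equiv.Perm GolayPt) p ∈ c.1 then -pairFun k p else pairFun k p := by
    intro k p
    rw [mono_smul]
    simp only [signedPerm, Equiv.symm_apply_apply]
    rfl
  have hpm : ∀ k, ∃ s : ℤ, (s = 1 ∨ s = -1) ∧
      ∀ p, ((mono (τ, c) • pairL k : leechLattice) : Vec) p = s * pairFun k p := by
    intro k
    have hn : sqNorm (pairFun k) = 32 := (pair_facts.2 k).2.2.1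
    rcases short_eq_of_cls leech_shells (x := pairL k) (y := mono (τ, c) • pairL k)
      (by rw [lform_self]; exact hn.le.trans (by norm_num))
      (by rw [lform_self, sqNorm_smul]; exact hn.le.trans (by norm_num)) (hp k) with e | e
    · exact ⟨1, Or.inl rfl, fun p => by rw [e, one_mul]; rfl⟩
    · exact ⟨-1, Or.inr rfl, fun p => by rw [e, neg_one_mul]; rfl⟩
  have hsupp : ∀ k p, (p = hx (Fin.castSucc k) ∨ p = none) →
      ((τ : Equiv.Perm GolayPt) p = hx (Fin.castSucc k) ∨ (τ : Equiv.Perm GolayPt) p = none) := by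
    intro k p hpk
    obtain ⟨s, -, hs'⟩ := hpm k
    by_contra hne
    push Not at hne
    have h1 := hvec k p
    rw [hs', pairFun_apply k ((τ : Equiv.Perm GolayPt) p), if_neg hne.1, if_neg hne.2,
      add_zero, mul_zero] at h1
    have hne' := (pair_facts.2 k).1
    rcases hpk with rfl | rfl <;> simp [pairFun_apply, hne', hne'.symm] at h1 <;> split_ifs at h1 <;>
      omega
  have hnone : (τ : Equiv.Perm GolayPt) none = none := by
    rcases hsupp 0 none (Or.inr rfl) with h0 | h0
    · rcases hsupp 1 none (Or.inr rfl) with h1 | h1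
      · exact absurd (hx_injective (h0.symm.trans h1)) (by decide)
      · exact h1
    · exact h0
  have hfix : ∀ m, (τ : Equiv.Perm GolayPt) (hx m) = hx m := by
    intro m
    induction m using Fin.lastCases with
    | last => rw [pair_facts.1, hnone]
    | cast k =>
      rcases hsupp k _ (Or.inl rfl) with h | h
      · exact h
      · exact absurd ((τ : Equiv.Perm GolayPt).injective (h.trans hnone.symm)) (pair_facts.2 k).1
  obtain ⟨i, hi⟩ := mem_zpowers_of_fix hτ hfix
  have hsign : ∀ k, (hx (Fin.castSucc k) ∈ c.1 ↔ none ∈ c.1) := by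
    intro k
    obtain ⟨s, -, hs'⟩ := hpm k
    have hne' := (pair_facts.2 k).1
    have h1 := hvec k none
    have h2 := hvec k (hx (Fin.castSucc k))
    rw [hnone, hs', pairFun_apply] at h1
    rw [hfix, hs', pairFun_apply] at h2
    simp [hne', hne'.symm] at h1 h2
    constructor <;> intro hin <;> by_contra hout <;> simp [hin, hout] at h1 h2 <;> omega
  rcases invList_facts.2 _ (mask_mem_invList c.2 hc) (fun k => by
    rw [Bool.eq_iff_iff, ← mem_maskSet, maskSet_mask, ← ix_pt (show 23 < 24 by norm_num),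
      ← mem_maskSet, maskSet_mask, show pt 23 = none from rfl]
    induction k using Fin.lastCases with
    | last => rw [pair_facts.1]
    | cast k => exact hsign k) with e | e
  · have hc0 : c = ⟨∅, empty_mem⟩ := Subtype.ext (mask_injective (by rw [e]; decide +kernel))
    refine ⟨i, ?_⟩
    show MonsterPair.toCo1 sig ^ i = MonsterPair.toCo1 (mono (τ, c))
    rw [hc0, ← MonsterPair.permHom_eq_mono, ← hi, map_zpow, map_zpow]
    rfl
  · have hcu : c.1 = Finset.univ := mask_injective (by rw [e]; decide +kernel)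
    refine ⟨i, ?_⟩
    show MonsterPair.toCo1 sig ^ i = MonsterPair.toCo1 (mono (τ, c))
    have hm : mono (τ, c) = negOne * permHom τ := by
      show sign c.1 c.2 * permHom τ = _
      rw [sign_congr hcu c.2 univ_mem]
      rfl
    have h1 : MonsterPair.toCo1 negOne = 1 := (QuotientGroup.eq_one_iff _).2 negOne_central
    rw [hm, map_mul, h1, one_mul, ← hi, map_zpow, map_zpow]
    rfl

end Cfsg.Agent.LargeExtra.MonsterFischer
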